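import Groth.Agent.H16Derived.DerComp.CompGroup
import Mathlib.RingTheory.AdicCompletion.Completeness
import Mathlib.RingTheory.AdicCompletion.Exactness
import Mathlib.RingTheory.Noetherian.Basic

/-!
# Recognising adic completions of finite modules
-/

set_option autoImplicit false
set_option linter.style.haveILetI false
universe u v

namespace Groth.Agent.H16Derived.DerCohAdic

open Groth.Agent.H16Derived.DerCompLib

variable {R : Type u} [CommRing R] (I : Ideal R) {M G : Type v} [AddCommGroup M] [Module R M]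
  [AddCommGroup G] [Module R G]

/-- A map inducing bijections modulo the powers of `I`. -/
def ModIso (φ : M →ₗ[R] G) : Prop :=
  ∀ n : ℕ, (∀ y : G, ∃ x : M, φ x - y ∈ (I ^ n • ⊤ : Submodule R G)) ∧
    ∀ x : M, φ x ∈ (I ^ n • ⊤ : Submodule R G) → x ∈ (I ^ n • ⊤ : Submodule R M)

variable {I}

theorem ModIso.map_injective {φ : M →ₗ[R] G} (h : ModIso I φ) : Function.Injective (AdicCompletion.map I φ) := by
  rw [injective_iff_map_eq_zero]
  intro a ha
  refine AdicCompletion.ext fun n => ?_
  obtain ⟨x, hx⟩ := Submodule.mkQ_surjective _ (a.val n)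
  have h0 : (AdicCompletion.map I φ a).val n = 0 := by rw [ha]; rfl
  rw [AdicCompletion.map_val_apply, ← hx] at h0
  rw [← hx]
  exact (Submodule.Quotient.mk_eq_zero _).2 ((h n).2 x ((Submodule.Quotient.mk_eq_zero _).1 h0))

theorem ModIso.map_surjective {φ : M →ₗ[R] G} (h : ModIso I φ) : Function.Surjective (AdicCompletion.map I φ) := by
  intro b
  choose y hy using fun n => Submodule.mkQ_surjective (I ^ n • ⊤ : Submodule R G) (b.val n)
  choose x hx using fun n => (h n).1 (y n)
  have hcoh : ∀ {m n : ℕ}, m ≤ n → x n - x m ∈ (I ^ m • ⊤ : Submodule R M) := fun {m n} hmn => by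
    refine (h m).2 _ ?_
    have h1 : y n - y m ∈ (I ^ m • ⊤ : Submodule R G) := by
      refine (Submodule.Quotient.eq _).1 ?_
      have := b.property hmn
      rw [← hy n, ← hy m] at this
      exact this
    have h2 := Submodule.smul_mono_left (N := (⊤ : Submodule R G)) (Ideal.pow_le_pow_right hmn (I := I)) (hx n)
    have h3 := add_mem (sub_mem h2 (hx m)) h1
    rw [map_sub]
    convert h3 using 1
    abel
  refine ⟨⟨fun n => Submodule.Quotient.mk (x n), fun {m n} hmn => ?_⟩, AdicCompletion.ext fun n => ?_⟩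
  · exact (Submodule.Quotient.eq _).2 (hcoh hmn)
  · refine Eq.trans ?_ (hy n)
    exact (Submodule.Quotient.eq _).2 (hx n)

/-- The completion of a map inducing bijections modulo powers. -/
noncomputable def ModIso.equiv {φ : M →ₗ[R] G} (h : ModIso I φ) : AdicCompletion I M ≃ₗ[R] AdicCompletion I G :=
  (LinearEquiv.ofBijective (AdicCompletion.map I φ) ⟨h.map_injective, h.map_surjective⟩).restrictScalars R

/-- A finite module has a model in the universe of the ring. -/
theorem exists_small (M : Type v) [AddCommGroup M] [Module R M] [Module.Finite R M] :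
    ∃ (k : ℕ) (K : Submodule R (Fin k → R)), Nonempty (((Fin k → R) ⧸ K) ≃ₗ[R] M) := by
  obtain ⟨k, p, hp⟩ := Module.Finite.exists_fin' R M
  exact ⟨k, LinearMap.ker p, ⟨p.quotKerEquivOfSurjective hp⟩⟩

theorem map_equiv_apply {M N : Type*} [AddCommGroup M] [Module R M] [AddCommGroup N] [Module R N] (e : M ≃ₗ[R] N)
    (x : AdicCompletion I M) :
    AdicCompletion.map I e.symm.toLinearMap (AdicCompletion.map I e.toLinearMap x) = x := by
  rw [← LinearMap.comp_apply, AdicCompletion.map_comp, LinearEquiv.comp_coe, LinearEquiv.self_trans_symm,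
    LinearEquiv.refl_toLinearMap, AdicCompletion.map_id]
  rfl

/-- Completion preserves injectivity, in any universe. -/
theorem map_injective' [IsNoetherianRing R] {M N : Type v} [AddCommGroup M] [Module R M] [AddCommGroup N]
    [Module R N] [Module.Finite R N] {f : M →ₗ[R] N} (hf : Function.Injective f) :
    Function.Injective (AdicCompletion.map I f) := by
  haveI : Module.Finite R M := Module.Finite.of_injective f hf
  obtain ⟨k₁, K₁, ⟨e₁⟩⟩ := exists_small (R := R) M
  obtain ⟨k₂, K₂, ⟨e₂⟩⟩ := exists_small (R := R) N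
  let f' := e₂.symm.toLinearMap ∘ₗ f ∘ₗ e₁.toLinearMap
  have h := AdicCompletion.map_injective I (f := f') (e₂.symm.injective.comp (hf.comp e₁.injective))
  intro x y hxy
  have e : ∀ z, AdicCompletion.map I f' (AdicCompletion.map I e₁.symm.toLinearMap z) =
      AdicCompletion.map I e₂.symm.toLinearMap (AdicCompletion.map I f z) := fun z => by
    rw [← LinearMap.comp_apply, AdicCompletion.map_comp, ← LinearMap.comp_apply, AdicCompletion.map_comp]
    congr 2
    exact LinearMap.ext fun w => congrArg (fun t => e₂.symm (f t)) (e₁.apply_symm_apply w)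
  have h' := h ((e x).trans ((congrArg _ hxy).trans (e y).symm))
  rw [← map_equiv_apply e₁.symm x, ← map_equiv_apply e₁.symm y, h']

/-- Completion is exact, in any universe. -/
theorem map_exact' [IsNoetherianRing R] {M N P : Type v} [AddCommGroup M] [Module R M] [AddCommGroup N]
    [Module R N] [AddCommGroup P] [Module R P] [Module.Finite R N] {f : M →ₗ[R] N} {g : N →ₗ[R] P}
    (hf : Function.Injective f) (hfg : Function.Exact f g) (hg : Function.Surjective g)
    (y : AdicCompletion I N) (hy : AdicCompletion.map I g y = 0) : ∃ x, AdicCompletion.map I f x = y := by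
  haveI : Module.Finite R M := Module.Finite.of_injective f hf
  haveI : Module.Finite R P := Module.Finite.of_surjective g hg
  obtain ⟨k₁, K₁, ⟨e₁⟩⟩ := exists_small (R := R) M
  obtain ⟨k₂, K₂, ⟨e₂⟩⟩ := exists_small (R := R) N
  obtain ⟨k₃, K₃, ⟨e₃⟩⟩ := exists_small (R := R) P
  let f' := e₂.symm.toLinearMap ∘ₗ f ∘ₗ e₁.toLinearMap
  let g' := e₃.symm.toLinearMap ∘ₗ g ∘ₗ e₂.toLinearMap
  have hfg' : Function.Exact f' g' := fun w => by
    show e₃.symm (g (e₂ w)) = 0 ↔ w ∈ Set.range fun v => e₂.symm (f (e₁ v))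
    rw [LinearEquiv.map_eq_zero_iff, hfg (e₂ w)]
    constructor
    · rintro ⟨v, hv⟩; exact ⟨e₁.symm v, by simp [hv]⟩
    · rintro ⟨v, rfl⟩; exact ⟨e₁ v, by simp⟩
  obtain ⟨x, hx⟩ := (AdicCompletion.map_exact (I := I) (f := f') (g := g') (e₂.symm.injective.comp (hf.comp e₁.injective))
    hfg' (e₃.symm.surjective.comp (hg.comp e₂.surjective)) (AdicCompletion.map I e₂.symm.toLinearMap y)).1 (by
      rw [← LinearMap.comp_apply, AdicCompletion.map_comp,
        show g' ∘ₗ e₂.symm.toLinearMap = e₃.symm.toLinearMap ∘ₗ g from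
          LinearMap.ext fun w => congrArg (fun t => e₃.symm (g t)) (e₂.apply_symm_apply w),
        ← AdicCompletion.map_comp, LinearMap.comp_apply, hy, map_zero])
  refine ⟨AdicCompletion.map I e₁.toLinearMap x, ?_⟩
  have h := congrArg (AdicCompletion.map I e₂.toLinearMap) hx
  rw [← LinearMap.comp_apply, AdicCompletion.map_comp] at h
  rw [← LinearMap.comp_apply, AdicCompletion.map_comp,
    show f ∘ₗ e₁.toLinearMap = e₂.toLinearMap ∘ₗ f' from
      LinearMap.ext fun w => (e₂.apply_symm_apply _).symm, h]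
  exact map_equiv_apply e₂.symm y

/-- Five lemma for completions. -/
theorem bijective_of_short {M₁ M₂ M₃ : Type v} [AddCommGroup M₁] [Module R M₁] [AddCommGroup M₂] [Module R M₂]
    [AddCommGroup M₃] [Module R M₃] {G₁ G₂ G₃ : Type v} [AddCommGroup G₁] [Module R G₁] [AddCommGroup G₂]
    [Module R G₂] [AddCommGroup G₃] [Module R G₃] [IsNoetherianRing R] [Module.Finite R M₂]
    {f : M₁ →ₗ[R] M₂} {g : M₂ →ₗ[R] M₃} (hf : Function.Injective f) (hfg : Function.Exact f g)
    (hg : Function.Surjective g)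
    {f' : G₁ →ₗ[R] G₂} {g' : G₂ →ₗ[R] G₃} (hfg' : Function.Exact f' g')
    (hg' : Function.Surjective g')
    {φ₁ : M₁ →ₗ[R] G₁} {φ₂ : M₂ →ₗ[R] G₂} {φ₃ : M₃ →ₗ[R] G₃} (c₁ : φ₂ ∘ₗ f = f' ∘ₗ φ₁) (c₂ : φ₃ ∘ₗ g = g' ∘ₗ φ₂)
    (h₁ : ModIso I φ₁) (h₂ : ModIso I φ₂) (h₃ : ModIso I φ₃)
    (b₁ : Function.Bijective (AdicCompletion.of I G₁)) (b₃ : Function.Bijective (AdicCompletion.of I G₃)) :
    Function.Bijective (AdicCompletion.of I G₂) := by
  have hF : ∀ a, AdicCompletion.map I f' (h₁.equiv a) = h₂.equiv (AdicCompletion.map I f a) := fun a => by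
    show AdicCompletion.map I f' (AdicCompletion.map I φ₁ a) = AdicCompletion.map I φ₂ (AdicCompletion.map I f a)
    rw [← LinearMap.comp_apply, AdicCompletion.map_comp, ← c₁, ← AdicCompletion.map_comp, LinearMap.comp_apply]
  have hG : ∀ a, AdicCompletion.map I g' (h₂.equiv a) = h₃.equiv (AdicCompletion.map I g a) := fun a => by
    show AdicCompletion.map I g' (AdicCompletion.map I φ₂ a) = AdicCompletion.map I φ₃ (AdicCompletion.map I g a)
    rw [← LinearMap.comp_apply, AdicCompletion.map_comp, ← c₂, ← AdicCompletion.map_comp, LinearMap.comp_apply]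
  have hinj : Function.Injective (AdicCompletion.map I f') := fun a b hab => by
    obtain ⟨a', rfl⟩ := h₁.equiv.surjective a
    obtain ⟨b', rfl⟩ := h₁.equiv.surjective b
    rw [hF, hF] at hab
    rw [map_injective' hf (h₂.equiv.injective hab)]
  have hex : ∀ z, AdicCompletion.map I g' z = 0 → ∃ a, AdicCompletion.map I f' a = z := fun z hz => by
    obtain ⟨z', rfl⟩ := h₂.equiv.surjective z
    rw [hG, LinearEquiv.map_eq_zero_iff] at hz
    obtain ⟨a, rfl⟩ := map_exact' hf hfg hg z' hz
    exact ⟨h₁.equiv a, hF a⟩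
  refine ⟨(injective_iff_map_eq_zero _).2 fun y hy => ?_, fun z => ?_⟩
  · have h0 : g' y = 0 := b₃.1 (by rw [← AdicCompletion.map_of, hy, map_zero, map_zero])
    obtain ⟨x, rfl⟩ := (hfg' y).1 h0
    rw [← AdicCompletion.map_of] at hy
    have : x = 0 := b₁.1 ((hinj (hy.trans (map_zero _).symm)).trans (map_zero _).symm)
    rw [this, map_zero]
  · obtain ⟨w, hw⟩ := b₃.2 (AdicCompletion.map I g' z)
    obtain ⟨y, rfl⟩ := hg' w
    obtain ⟨a, ha⟩ := hex (z - AdicCompletion.of I G₂ y) (by
      rw [map_sub, AdicCompletion.map_of, hw, sub_self])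
    obtain ⟨x, rfl⟩ := b₁.2 a
    refine ⟨y + f' x, ?_⟩
    rw [map_add, ← AdicCompletion.map_of, ha]
    abel

/-- The torsion-free step. -/
theorem bijective_of_torsionFree {Q GQ : Type v} [AddCommGroup Q] [Module R Q] [AddCommGroup GQ] [Module R GQ]
    [IsNoetherianRing R] [Module.Finite R M] {s : R} (hs : s ∈ I) {φ : M →ₗ[R] G} (hφ : ModIso I φ)
    (hinj : Function.Injective fun x : M => s • x)
    (hc : Comp (DistribSMul.toAddMonoidHom G s))
    {π : G →ₗ[R] GQ} (hπ : ∀ y, π y = 0 → ∃ y', y = s • y') (hπ' : Function.Surjective π)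
    (hπs : ∀ y, π (s • y) = 0)
    {ρ : M →ₗ[R] Q} {ψ : Q →ₗ[R] GQ} (hψ : ModIso I ψ) (c : ψ ∘ₗ ρ = π ∘ₗ φ)
    (hρ : Function.Exact (s • LinearMap.id : M →ₗ[R] M) ρ) (hρ' : Function.Surjective ρ)
    (bQ : Function.Bijective (AdicCompletion.of I GQ)) :
    Function.Bijective (AdicCompletion.of I G) := by
  haveI : IsHausdorff I (AdicCompletion I G) :=
    (AdicCompletion.isAdicComplete (I := I) (M := G) (IsNoetherian.noetherian I)).toIsHausdorff
  have hsG : Function.Injective fun z : AdicCompletion I G => s • z := fun a b hab => by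
    obtain ⟨a', rfl⟩ := hφ.equiv.surjective a
    obtain ⟨b', rfl⟩ := hφ.equiv.surjective b
    dsimp only at hab
    rw [← map_smul, ← map_smul] at hab
    have h' := hφ.equiv.injective hab
    have e : ∀ x : AdicCompletion I M, AdicCompletion.map I (s • LinearMap.id : M →ₗ[R] M) x = s • x := fun x =>
      AdicCompletion.ext fun n => by
        rw [AdicCompletion.map_val_apply, AdicCompletion.val_smul_apply]
        obtain ⟨m, hm⟩ := Submodule.mkQ_surjective _ (x.val n)
        rw [← hm]; rfl
    rw [← e, ← e] at h'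
    rw [map_injective' (f := (s • LinearMap.id : M →ₗ[R] M)) hinj h']
  have hker : ∀ z : AdicCompletion I G, AdicCompletion.map I π z = 0 → ∃ z', z = s • z' := fun z hz => by
    obtain ⟨z', rfl⟩ := hφ.equiv.surjective z
    have h0 : AdicCompletion.map I ρ z' = 0 := hψ.map_injective (by
      rw [map_zero, ← LinearMap.comp_apply, AdicCompletion.map_comp, c, ← AdicCompletion.map_comp]
      exact hz)
    obtain ⟨w, rfl⟩ := map_exact' (f := (s • LinearMap.id : M →ₗ[R] M)) hinj hρ hρ' z' h0
    refine ⟨hφ.equiv w, ?_⟩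
    rw [← map_smul]
    refine congrArg hφ.equiv (AdicCompletion.ext fun n => ?_)
    rw [AdicCompletion.map_val_apply, AdicCompletion.val_smul_apply]
    obtain ⟨m, hm⟩ := Submodule.mkQ_surjective _ (w.val n)
    rw [← hm]; rfl
  let θ := AdicCompletion.of I G
  refine ⟨(injective_iff_map_eq_zero _).2 fun y hy => ?_, fun z => ?_⟩
  · have step : ∀ y : G, θ y = 0 → ∃ y', θ y' = 0 ∧ y = s • y' := fun y hy => by
      obtain ⟨y', rfl⟩ := hπ y (bQ.1 (by rw [← AdicCompletion.map_of, hy, map_zero, map_zero]))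
      rw [map_smul] at hy
      exact ⟨y', hsG (hy.trans (smul_zero s).symm), rfl⟩
    choose g hg₀ hg using step
    let x : ℕ → {y : G // θ y = 0} := fun i => (fun y => ⟨g y.1 y.2, hg₀ y.1 y.2⟩)^[i] ⟨y, hy⟩
    exact congrFun (hc.eq_zero (x := fun i => (x i).1) fun i => by
      show (x i).1 = s • (x (i + 1)).1
      simp only [x, Function.iterate_succ_apply']
      exact hg _ _) 0
  · have step : ∀ z : AdicCompletion I G, ∃ (y : G) (z' : AdicCompletion I G), z = θ y + s • z' := fun z => by
      obtain ⟨w, hw⟩ := bQ.2 (AdicCompletion.map I π z)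
      obtain ⟨y, rfl⟩ := hπ' w
      obtain ⟨z', hz'⟩ := hker (z - θ y) (by rw [map_sub, AdicCompletion.map_of, hw, sub_self])
      exact ⟨y, z', by rw [← hz', add_sub_cancel]⟩
    choose g g' hg using step
    let zs : ℕ → AdicCompletion I G := fun i => g'^[i] z
    obtain ⟨ys, hys⟩ := hc.2 (fun i => g (zs i))
    have hd : ∀ i, zs i - θ (ys i) = s • (zs (i + 1) - θ (ys (i + 1))) := fun i => by
      have h1 : zs i = θ (g (zs i)) + s • zs (i + 1) := by
        simp only [zs, Function.iterate_succ_apply']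
        exact hg _
      have h2 : g (zs i) = ys i - s • ys (i + 1) := (congrFun hys i).symm
      rw [h2, map_sub, map_smul] at h1
      rw [h1, smul_sub]
      abel
    have hpow : ∀ n i, zs i - θ (ys i) = s ^ n • (zs (i + n) - θ (ys (i + n))) := by
      intro n
      induction n with
      | zero => intro i; rw [pow_zero, one_smul]; rfl
      | succ n ih => intro i; rw [ih i, hd (i + n), smul_smul, ← pow_succ]; rfl
    refine ⟨ys 0, (sub_eq_zero.1 (IsHausdorff.haus ‹_› (zs 0 - θ (ys 0)) fun n => ?_)).symm⟩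
    rw [SModEq.zero, hpow n 0]
    exact Submodule.smul_mem_smul (Ideal.pow_mem_pow hs n) Submodule.mem_top

/-- Bijectivity modulo a power from compatible quotient maps. -/
theorem mod_of_quot {M' G' : Type v} [AddCommGroup M'] [Module R M'] [AddCommGroup G'] [Module R G'] (J : Ideal R)
    (φ : M →ₗ[R] G) (φ' : M' →ₗ[R] G') {p : M →ₗ[R] M'} {p' : G →ₗ[R] G'} (c : φ' ∘ₗ p = p' ∘ₗ φ)
    (hp : Function.Surjective p) (hφ' : Function.Bijective φ') (hk : LinearMap.ker p = J • ⊤)
    (hk' : LinearMap.ker p' = J • ⊤) :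
    (∀ y : G, ∃ x : M, φ x - y ∈ (J • ⊤ : Submodule R G)) ∧
      ∀ x : M, φ x ∈ (J • ⊤ : Submodule R G) → x ∈ (J • ⊤ : Submodule R M) := by
  refine ⟨fun y => ?_, fun x hx => ?_⟩
  · obtain ⟨w, hw⟩ := hφ'.2 (p' y)
    obtain ⟨x, rfl⟩ := hp w
    refine ⟨x, hk' ▸ ?_⟩
    rw [LinearMap.mem_ker, map_sub, sub_eq_zero]
    exact (LinearMap.congr_fun c x).symm.trans hw
  · rw [← hk'] at hx
    rw [← hk, LinearMap.mem_ker]
    refine hφ'.1 ((LinearMap.congr_fun c x).trans ?_)
    rw [map_zero]
    exact hx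

/-- A test group killed by a power of the ideal is complete. -/
theorem bijective_of_killed {N : ℕ}
    (h : ∀ a ∈ I ^ N, ∀ y : G, a • y = 0) : Function.Bijective (AdicCompletion.of I G) := by
  have hbot : (I ^ N • ⊤ : Submodule R G) = ⊥ := by
    rw [eq_bot_iff, Submodule.smul_le]
    exact fun a ha y _ => (Submodule.mem_bot _).2 (h a ha y)
  refine ⟨(injective_iff_map_eq_zero _).2 fun y hy => ?_, fun z => ?_⟩
  · have := congrArg (fun w => w.val N) hy
    rw [AdicCompletion.of_apply] at this
    exact (Submodule.mem_bot R).1 (hbot ▸ (Submodule.Quotient.mk_eq_zero _).1 this)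
  · obtain ⟨y, hy⟩ := Submodule.mkQ_surjective _ (z.val N)
    refine ⟨y, AdicCompletion.ext fun m => ?_⟩
    rw [AdicCompletion.of_apply]
    rcases le_total m N with hm | hm
    · rw [← z.property hm, ← hy]; rfl
    · obtain ⟨y', hy'⟩ := Submodule.mkQ_surjective _ (z.val m)
      have h := z.property hm
      rw [← hy', ← hy] at h
      have h2 := (Submodule.Quotient.eq _).1 h
      rw [hbot, Submodule.mem_bot, sub_eq_zero] at h2
      rw [← hy', ← h2]
      rfl

/-- A complete target inherits adic completeness. -/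
theorem isAdicComplete_of_bijective (h : Function.Bijective (AdicCompletion.of I G)) : IsAdicComplete I G :=
  AdicCompletion.of_bijective_iff.1 h

end Groth.Agent.H16Derived.DerCohAdic
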