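import Groth.Agent.H16Derived.DerComp.Null.Dual
import Groth.Agent.H16Derived.DerComp.Null.Tri
import Groth.Agent.H16Derived.DerComp.Fibre

/-!
# An upper bound for maps into a reflection
-/

set_option autoImplicit false
set_option linter.style.haveILetI false
set_option linter.unusedSectionVars false
set_option backward.isDefEq.respectTransparency false

universe w v u r

open CategoryTheory CategoryTheory.Limits CategoryTheory.Pretriangulated

namespace Groth.Agent.H16Derived.DerCohAdic

open DerCompLib DerCompLib.Null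

variable {R : Type r} [CommRing R] {A : Type u} [Category.{v} A] [Abelian A] [Linear R A]
  [HasDerivedCategory.{w} A]

theorem subsingleton_shift₁ {Y L : DerivedCategory A} {q q' : ℤ} (h : q' + 1 = q)
    (hs : Subsingleton (Y ⟶ L⟦q'⟧)) : Subsingleton (Y⟦(1 : ℤ)⟧ ⟶ L⟦q⟧) :=
  ((Functor.FullyFaithful.ofFullyFaithful (shiftFunctor (DerivedCategory A) (1 : ℤ))).homEquiv.trans
    ((Iso.refl _).homCongr ((shiftFunctorAdd' (DerivedCategory A) q' 1 q h).app L).symm)).subsingleton_congr.1 hs

/-- Maps out of Koszul complexes vanish above the bound plus the length. -/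
theorem subsingleton_kX_hom (X : CochainComplex A ℤ) (L : DerivedCategory A) (m : ℤ)
    (hL : ∀ q, m < q → Subsingleton (DerivedCategory.Q.obj X ⟶ L⟦q⟧)) :
    ∀ (l : List R) (q : ℤ), m + l.length < q → Subsingleton (DerivedCategory.Q.obj (kX R l X) ⟶ L⟦q⟧)
  | [], q, hq => hL q (by simpa using hq)
  | f :: l, q, hq => by
    obtain ⟨i, d, hT⟩ := exists_triangle f l X
    simp only [List.length_cons, Nat.cast_succ] at hq
    refine subsingleton_of_forall_eq 0 fun x => ?_
    haveI := subsingleton_kX_hom X L m hL l q (by omega)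
    obtain ⟨z, hz⟩ := Triangle.yoneda_exact₃ _ hT x (Subsingleton.elim
      (α := DerivedCategory.Q.obj (kX R l X) ⟶ L⟦q⟧) _ _)
    haveI := subsingleton_shift₁ (q := q) (by omega) (subsingleton_kX_hom X L m hL l (q - 1) (by omega))
    rw [hz, Subsingleton.elim (α := (DerivedCategory.Q.obj (kX R l X))⟦(1 : ℤ)⟧ ⟶ L⟦q⟧) z 0]
    exact comp_zero

variable {P : ObjectProperty (DerivedCategory A)} (hP : ∀ M, P M → ∀ k : ℤ, P (M⟦k⟧))
  {c : DerivedCategory A ⥤ P.FullSubcategory} (adj : c ⊣ P.ι)

include hP adj in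
/-- The bound is inherited by the reflection. -/
theorem subsingleton_refl (l : List R)
    (hcomp : ∀ f ∈ l, ∀ M, P M → ∀ (Y : DerivedCategory A) (q : ℤ), Comp (Preadditive.leftComp (M⟦q⟧) (f • 𝟙 Y)))
    (hnil : ∀ B : DerivedCategory A, (∀ f ∈ l, ∃ N : ℕ, f ^ N • 𝟙 B = 0) → P B)
    (X : CochainComplex A ℤ) (L : DerivedCategory A) (m : ℤ)
    (hL : ∀ q, m < q → Subsingleton (DerivedCategory.Q.obj X ⟶ L⟦q⟧)) (q : ℤ) (hq : m < q) :
    Subsingleton (DerivedCategory.Q.obj X ⟶ (c.obj L).obj⟦q⟧) := by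
  obtain ⟨E, i, d, hT, hE⟩ := exists_orth_triangle hP adj L
  let T := (c.obj L).obj
  -- the cone is killed by the full Koszul complex
  have hEl : Pl l X E := by
    let Yc := DerivedCategory.Q.objPreimage E
    let eY : DerivedCategory.Q.obj Yc ≅ E := DerivedCategory.Q.objObjPreimageIso E
    refine pl_iso eY (pl_of_isZero_right _ _ _ (isZero_kX_of_subsingleton _ _ fun n => ?_))
    refine subsingleton_of_iso_left eY.symm (hE _ ?_ n)
    exact hnil _ fun f hf => exists_pow_smul_eq_zero l.reverse Yc (List.mem_reverse.2 hf)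
  have hfull : ∀ q, m + l.length < q → Subsingleton (DerivedCategory.Q.obj (kX R l X) ⟶ T⟦q⟧) := fun q hq => by
    refine subsingleton_of_forall_eq 0 fun x => ?_
    obtain ⟨y, hy⟩ := Triangle.coyoneda_exact₂ _ (Triangle.shift_distinguished _ hT q) x ((hEl q).elim _ _)
    rw [hy, (subsingleton_kX_hom X L m hL l q hq).elim y 0, zero_comp]
  -- descend
  suffices ∀ l' : List R, (∀ f ∈ l', f ∈ l) →
      (∀ q, m + l'.length < q → Subsingleton (DerivedCategory.Q.obj (kX R l' X) ⟶ T⟦q⟧)) →
        ∀ q, m < q → Subsingleton (DerivedCategory.Q.obj X ⟶ T⟦q⟧) from this l (fun _ h => h) hfull q hq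
  intro l'
  induction l' with
  | nil => exact fun _ h q hq => h q (by simpa using hq)
  | cons f l' ih =>
    intro hmem h
    refine ih (fun g hg => hmem g (List.mem_cons_of_mem _ hg)) fun q hq => ?_
    obtain ⟨i', d', hT'⟩ := exists_triangle f l' X
    let Y := DerivedCategory.Q.obj (kX R l' X)
    let C := DerivedCategory.Q.obj (kX R (f :: l') X)
    haveI : Subsingleton (C⟦(-1 : ℤ)⟧ ⟶ T⟦q⟧) :=
      ((Functor.FullyFaithful.ofFullyFaithful (shiftFunctor (DerivedCategory A) (1 : ℤ))).homEquiv.trans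
        (((shiftFunctorCompIsoId (DerivedCategory A) (-1 : ℤ) 1 (by omega)).app C).homCongr
          ((shiftFunctorAdd' (DerivedCategory A) q 1 (q + 1) rfl).app T).symm)).subsingleton_congr.2
        (h (q + 1) (by simp only [List.length_cons, Nat.cast_succ]; omega))
    have hsurj : ∀ x : Y ⟶ T⟦q⟧, ∃ z : Y ⟶ T⟦q⟧, x = (f • 𝟙 Y) ≫ z := fun x => by
      obtain ⟨z, hz⟩ := Triangle.yoneda_exact₂ _ (inv_rot_of_distTriang _ hT') x
        (Subsingleton.elim (α := C⟦(-1 : ℤ)⟧ ⟶ T⟦q⟧) _ _)
      exact ⟨z, hz⟩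
    choose g hg using hsurj
    refine subsingleton_of_forall_eq 0 fun x => ?_
    exact congrFun ((hcomp f (hmem f List.mem_cons_self) T (c.obj L).property Y q).eq_zero
      (x := fun i => g^[i] x) fun i => by
        show g^[i] x = (f • 𝟙 Y) ≫ g^[i + 1] x
        rw [Function.iterate_succ_apply']
        exact hg _) 0

end Groth.Agent.H16Derived.DerCohAdic
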