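import Groth.Agent.H16Derived.DerCohVanish.Scheme
import Groth.Agent.H16Derived.DerCohAdic.Koszul
import Groth.Agent.H16Derived.DerComp.Local

/-!
# Completeness for ideals generated by global sections
-/

set_option autoImplicit false
set_option linter.style.haveILetI false
set_option linter.unusedSectionVars false
set_option backward.isDefEq.respectTransparency false

universe u

open CategoryTheory CategoryTheory.Limits Opposite TopologicalSpace AlgebraicGeometry

namespace Groth.Agent.H16Derived.DerCohAdic

open DerCompLib H15Site DerCohVanish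

attribute [local instance] HasDerivedCategory.standard
attribute [local instance 10000] SiteInst.hasSheafifySite SiteInst.hasWeakSheafifySite
attribute [local instance] shiftAdditive

variable {X : Scheme.{u}} {I : Ideal (DerComp.GSec X.sheaf)} {𝓘 : DerComp.IdealSh X.sheaf}
  (h𝓘 : 𝓘.IsGenBy (fun a : I => (a : DerComp.GSec X.sheaf)))

include h𝓘

/-- The scalars of the ideal are complete on maps out of every object. -/
theorem comp_hom (s : DerComp.GSec X.sheaf) (hs : s ∈ I) (M : DerivedCategory (ModSite.Mod X.sheaf))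
    (hM : DerComp.IsDerComp X.sheaf 𝓘 M) (Y : DerivedCategory (ModSite.Mod X.sheaf)) (q : ℤ) :
    Comp (Preadditive.leftComp (M⟦q⟧) (s • 𝟙 Y)) := by
  haveI := H10Coh.isGrothendieckAbelian_sheafOfModules (ModSite.ringSh X.sheaf)
  haveI := KInjRes.hasProducts_derivedCategory (A := ModSite.Mod X.sheaf)
  have hℕ : HasLimitsOfShape (Discrete ℕ) (DerivedCategory (ModSite.Mod X.sheaf)) :=
    hasLimitsOfShape_of_equivalence (Discrete.equivalence (Equiv.ulift.{u, 0} : ULift.{u} ℕ ≃ ℕ))
  haveI : HasProduct fun _ : ℕ => M := hℕ.has_limit _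
  obtain ⟨L, a, c, hT⟩ := exists_fibre (R := DerComp.GSec X.sheaf) (A := ModSite.Mod X.sheaf) s M
  have hL : IsZero L := by
    refine isZero_of_separating (ι := X.Opens) (G := fun V => ModSite.freeOn X.sheaf V)
      (fun {F F'} φ hφ => ?_) L fun V => (compFor_smul_iff_of_triangle hT _).1 ?_
    · refine SheafOfModules.hom_ext (PresheafOfModules.hom_ext fun V => ModuleCat.hom_ext (LinearMap.ext fun x => ?_))
      obtain ⟨h, hh⟩ := (FreeOn.homEquiv X.sheaf V.unop F).surjective x
      have h0 := FreeOn.homEquiv_comp X.sheaf V.unop φ h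
      rw [hφ V.unop h, map_zero] at h0
      rw [← hh]
      exact h0.symm
    · rw [← θ_eq_smul]
      exact (isDerComp_iff X.sheaf 𝓘 M).1 hM V _ (h𝓘.1 ⟨s, hs⟩ V)
  exact (comp_smul_iff_of_triangle hT Y).2 (fun j => ⟨fun x y => hL.eq_of_tgt x y⟩) q

/-- Objects on which generators are nilpotent are complete. -/
theorem isDerComp_of_nilD (l : Set (DerComp.GSec X.sheaf)) (hl : Ideal.span l = I)
    (B : DerivedCategory (ModSite.Mod X.sheaf)) (hB : ∀ f ∈ l, ∃ N : ℕ, f ^ N • 𝟙 B = 0) :
    DerComp.IsDerComp X.sheaf 𝓘 B := by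
  rw [isDerComp_iff_le]
  refine h𝓘.2 _ fun a V => ?_
  let ev : DerComp.GSec X.sheaf →+* X.sheaf.obj.obj (op V) :=
    { toFun := fun s => s.1 V, map_one' := rfl, map_mul' := fun _ _ => rfl, map_zero' := rfl,
      map_add' := fun _ _ => rfl }
  have hle : Ideal.span l ≤ Ideal.comap ev ((compIdeal X.sheaf B).ideal V) := by
    refine Ideal.span_le.2 fun f hf => ?_
    obtain ⟨N, hN⟩ := hB f hf
    intro W k
    have h := compAt_of_nilD f hN W
    convert h using 1
    exact DerComp.GSec.compat f k
  exact hle (hl.symm ▸ a.2)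

end Groth.Agent.H16Derived.DerCohAdic
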