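import Groth.Agent.H16Derived.DerCohAdic.Seq

/-!
# Exactness in degree zero and quotients by scalars
-/

set_option autoImplicit false
set_option linter.style.haveILetI false
set_option linter.unusedSectionVars false
set_option backward.isDefEq.respectTransparency false

universe w v u r

open CategoryTheory CategoryTheory.Limits CategoryTheory.Pretriangulated

namespace Groth.Agent.H16Derived.DerCohAdic

variable {R : Type r} [CommRing R] {A : Type u} [Category.{v} A] [Abelian A] [Linear R A]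
  [HasDerivedCategory.{w} A] (u₀ : A) (Ψ : DerivedCategory A ⥤ DerivedCategory A) (C : A → Prop)

/-- The degree zero test group. -/
abbrev H₀ (H : A) : Type w :=
  (DerivedCategory.singleFunctor A 0).obj u₀ ⟶ (Ψ.obj ((DerivedCategory.singleFunctor A 0).obj H))⟦(0 : ℤ)⟧

variable (R) in
/-- Functoriality of the test group. -/
noncomputable def Hm {H H' : A} (f : H ⟶ H') : H₀ u₀ Ψ H →ₗ[R] H₀ u₀ Ψ H' :=
  pm R ((DerivedCategory.singleFunctor A 0).obj u₀) (Ψ.map ((DerivedCategory.singleFunctor A 0).map f)) 0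

theorem Hm_comp {H H' H'' : A} (f : H ⟶ H') (g : H' ⟶ H'') :
    Hm R u₀ Ψ g ∘ₗ Hm R u₀ Ψ f = Hm R u₀ Ψ (f ≫ g) := by
  rw [Hm, Hm, Hm, pm_comp, ← Functor.map_comp, ← Functor.map_comp]

/-- The hypotheses on the functor. -/
structure Nice (R : Type r) [CommRing R] [Linear R A] : Prop where
  tri : ∀ {X Y Z : DerivedCategory A} {f : X ⟶ Y} {g : Y ⟶ Z} {d : Z ⟶ X⟦(1 : ℤ)⟧},
    Triangle.mk f g d ∈ distTriang (DerivedCategory A) →
      ∃ d', Triangle.mk (Ψ.map f) (Ψ.map g) d' ∈ distTriang (DerivedCategory A)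
  lin : ∀ (s : R) (X : DerivedCategory A), Ψ.map (s • 𝟙 X) = s • 𝟙 (Ψ.obj X)
  van : ∀ H, C H → ∀ q : ℤ, q ≠ 0 → Subsingleton ((DerivedCategory.singleFunctor A 0).obj u₀ ⟶
    (Ψ.obj ((DerivedCategory.singleFunctor A 0).obj H))⟦q⟧)

variable {u₀ Ψ C}

theorem Nice.Hm_smul_id (h : Nice u₀ Ψ C R) (s : R) (H : A) : Hm R u₀ Ψ (s • 𝟙 H) = s • LinearMap.id := by
  rw [Hm, Functor.map_smul, CategoryTheory.Functor.map_id, h.lin, pm_smul_id]

theorem Nice.short (h : Nice u₀ Ψ C R) {T : ShortComplex A} (hT : T.ShortExact) (h₁ : C T.X₁) (h₃ : C T.X₃) :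
    Function.Injective (Hm R u₀ Ψ T.f) ∧ Function.Exact (Hm R u₀ Ψ T.f) (Hm R u₀ Ψ T.g) ∧
      Function.Surjective (Hm R u₀ Ψ T.g) := by
  obtain ⟨d, hd⟩ := h.tri hT.singleTriangle_distinguished
  exact ⟨injective_pm₁ hd _ 0 (h.van _ h₃ (0 - 1) (by omega)), exact_pm hd _ 0,
    surjective_pm₂ hd _ 0 (h.van _ h₁ (0 + 1) (by omega))⟩

theorem Nice.right_exact (h : Nice u₀ Ψ C R)
    (hker : ∀ {H H' : A} (φ : H ⟶ H'), C H → C H' → C (kernel φ) ∧ C (cokernel φ)) {H H' : A} (φ : H ⟶ H')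
    (hH : C H) (hH' : C H') :
    Function.Exact (Hm R u₀ Ψ φ) (Hm R u₀ Ψ (cokernel.π φ)) ∧ Function.Surjective (Hm R u₀ Ψ (cokernel.π φ)) := by
  let j := kernel.ι (cokernel.π φ)
  have hQ := (hker φ hH hH').2
  have hJ : C (kernel (cokernel.π φ)) := (hker _ hH' hQ).1
  let T₂ : ShortComplex A := ShortComplex.mk j (cokernel.π φ) (kernel.condition _)
  have hT₂ : T₂.ShortExact := { exact := ShortComplex.exact_kernel (cokernel.π φ) }
  let e : H ⟶ kernel (cokernel.π φ) := Abelian.factorThruImage φ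
  let T₁ : ShortComplex A := ShortComplex.mk (kernel.ι e) e (kernel.condition _)
  have hT₁ : T₁.ShortExact := { exact := ShortComplex.exact_kernel e }
  obtain ⟨-, -, hs₁⟩ := h.short hT₁ (hker e hH hJ).1 hJ
  obtain ⟨-, he₂, hs₂⟩ := h.short hT₂ hJ hQ
  refine ⟨fun x => ⟨fun hx => ?_, ?_⟩, hs₂⟩
  · obtain ⟨y, rfl⟩ := (he₂ x).1 hx
    obtain ⟨z, rfl⟩ := hs₁ y
    refine ⟨z, ?_⟩
    show _ = (Hm R u₀ Ψ j ∘ₗ Hm R u₀ Ψ e) z
    rw [Hm_comp]
    exact congrArg (fun f => Hm R u₀ Ψ f z) (Abelian.image.fac φ).symm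
  · rintro ⟨y, rfl⟩
    refine (he₂ _).2 ⟨Hm R u₀ Ψ e y, ?_⟩
    show (Hm R u₀ Ψ j ∘ₗ Hm R u₀ Ψ e) y = _
    rw [Hm_comp]
    exact congrArg (fun f => Hm R u₀ Ψ f y) (Abelian.image.fac φ)

/-- A quotient killed by scalars, computed on test groups for all functors at once. -/
theorem exists_quot (hker : ∀ {H H' : A} (φ : H ⟶ H'), C H → C H' → C (kernel φ) ∧ C (cokernel φ))
    (l : List R) {H : A} (hH : C H) :
    ∃ (H' : A) (π : H ⟶ H'), C H' ∧ (∀ a ∈ l, a • 𝟙 H' = 0) ∧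
      ∀ (Ψ : DerivedCategory A ⥤ DerivedCategory A), Nice u₀ Ψ C R →
        Function.Surjective (Hm R u₀ Ψ π) ∧
          LinearMap.ker (Hm R u₀ Ψ π) = Ideal.ofList l • (⊤ : Submodule R (H₀ u₀ Ψ H)) := by
  induction l with
  | nil =>
    refine ⟨H, 𝟙 H, hH, by simp, fun Ψ hΨ => ?_⟩
    have : Hm R u₀ Ψ (𝟙 H) = LinearMap.id := LinearMap.ext fun x => by
      show x ≫ (Ψ.map ((DerivedCategory.singleFunctor A 0).map (𝟙 H)))⟦(0 : ℤ)⟧' = x
      simp
    rw [this, LinearMap.ker_id, Ideal.ofList_nil, Submodule.bot_smul]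
    exact ⟨Function.surjective_id, rfl⟩
  | cons a l ih =>
    obtain ⟨H', π, hH', hkill, hπ⟩ := ih
    let p := cokernel.π (a • 𝟙 H')
    refine ⟨_, π ≫ p, (hker _ hH' hH').2, fun b hb => ?_, fun Ψ hΨ => ?_⟩
    · refine (cancel_epi p).1 ?_
      rw [comp_zero, Linear.comp_smul, Category.comp_id, ← Category.id_comp p, ← Linear.smul_comp]
      rcases List.mem_cons.1 hb with rfl | hb
      · exact cokernel.condition _
      · rw [hkill b hb, zero_comp]
    · obtain ⟨hs, hk⟩ := hπ Ψ hΨ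
      obtain ⟨he, hs'⟩ := hΨ.right_exact hker (a • 𝟙 H') hH' hH'
      rw [hΨ.Hm_smul_id] at he
      rw [← Hm_comp, LinearMap.coe_comp]
      refine ⟨hs'.comp hs, le_antisymm (fun x hx => ?_) ?_⟩
      · rw [LinearMap.mem_ker, LinearMap.comp_apply] at hx
        obtain ⟨y', hy'⟩ := (he _).1 hx
        obtain ⟨y, rfl⟩ := hs y'
        have hxy : x - a • y ∈ LinearMap.ker (Hm R u₀ Ψ π) := by
          rw [LinearMap.mem_ker, map_sub, map_smul, sub_eq_zero]
          exact hy'.symm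
        rw [hk] at hxy
        rw [Ideal.ofList_cons, Submodule.sup_smul, ← add_sub_cancel (a • y) x]
        exact Submodule.add_mem_sup (Submodule.smul_mem_smul (Ideal.subset_span rfl) Submodule.mem_top) hxy
      · rw [Ideal.ofList_cons, Submodule.sup_smul, sup_le_iff]
        refine ⟨Submodule.smul_le.2 fun b hb y _ => ?_, fun y hy => ?_⟩
        · obtain ⟨c, rfl⟩ := Ideal.mem_span_singleton'.1 hb
          rw [LinearMap.mem_ker, LinearMap.comp_apply, mul_comm, mul_smul, map_smul]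
          exact (he _).2 ⟨Hm R u₀ Ψ π (c • y), rfl⟩
        · rw [← hk, LinearMap.mem_ker] at hy
          rw [LinearMap.mem_ker, LinearMap.comp_apply, hy, map_zero]

end Groth.Agent.H16Derived.DerCohAdic
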