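import Groth.Agent.H16Derived.DerCohAdic.Half
import Groth.Agent.H16Derived.DerCohAdic.Basic
import Groth.Agent.H16Derived.DerCohAdic.Algebra

/-!
# The derived completion of a coherent module on an affine scheme
-/

set_option autoImplicit false
set_option linter.style.haveILetI false
set_option linter.unusedSectionVars false
set_option backward.isDefEq.respectTransparency false

universe u

open CategoryTheory CategoryTheory.Limits Opposite TopologicalSpace AlgebraicGeometry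

namespace Groth.Agent.H16Derived.DerCohAdic

open DerCompLib H15Site DerCohVanish

attribute [local instance] HasDerivedCategory.standard
attribute [local instance 10000] SiteInst.hasSheafifySite SiteInst.hasWeakSheafifySite
attribute [local instance] shiftAdditive

variable {X : Scheme.{u}}

variable (X) in
/-- Evaluation of global sections. -/
def evTop : DerComp.GSec X.sheaf →+* Γ(X, ⊤) where
  toFun s := s.1 ⊤
  map_one' := rfl
  map_mul' _ _ := rfl
  map_zero' := rfl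
  map_add' _ _ := rfl

theorem bijective_evTop : Function.Bijective (evTop X) := by
  refine ⟨fun s t h => Subtype.ext (funext fun U => ?_), fun f => ?_⟩
  · rw [← DerComp.GSec.compat s (homOfLE le_top : U ⟶ ⊤), ← DerComp.GSec.compat t (homOfLE le_top : U ⟶ ⊤)]
    exact congrArg (X.sheaf.obj.map (homOfLE le_top : U ⟶ ⊤).op).hom h
  · refine ⟨⟨fun U => (X.presheaf.map (homOfLE (le_top : U ≤ ⊤)).op).hom f, fun U V g => ?_⟩, ?_⟩
    · exact (ConcreteCategory.congr_hom (X.presheaf.map_comp (homOfLE (le_top : U ≤ ⊤)).op g.op).symm f).trans rfl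
    · show (X.presheaf.map (homOfLE (le_top : (⊤ : X.Opens) ≤ ⊤)).op).hom f = f
      exact ConcreteCategory.congr_hom (X.presheaf.map_id (op ⊤)) f

/-- The structure sheaf in degree zero. -/
noncomputable abbrev oX (X : Scheme.{u}) : DerivedCategory (ModSite.Mod X.sheaf) :=
  (DerivedCategory.singleFunctor (ModSite.Mod X.sheaf) 0).obj (ModSite.unit X.sheaf)

theorem finite_H₀ [IsAffine X] [IsLocallyNoetherian X] (F : ModSite.Mod X.sheaf) (hF : Coh.IsCoh (X := X) F) :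
    Module.Finite (DerComp.GSec X.sheaf) (H₀ (ModSite.unit X.sheaf) (𝟭 _) F) := by
  haveI : IsNoetherianRing Γ(X, ⊤) := IsLocallyNoetherian.component_noetherian ⟨⊤, isAffineOpen_top X⟩
  letI : Algebra (DerComp.GSec X.sheaf) Γ(X, ⊤) := (evTop X).toAlgebra
  haveI : IsNoetherianRing (DerComp.GSec X.sheaf) :=
    isNoetherianRing_of_ringEquiv _ (RingEquiv.ofBijective (evTop X) bijective_evTop).symm
  let M := ((show X.Modules from F).presheaf.obj (op ⊤) : AddCommGrpCat)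
  haveI := ((H10Coh.isCoh_iff_finite_sections (show X.Modules from F)).1 hF).2 ⊤ (isAffineOpen_top X)
  letI : Module (DerComp.GSec X.sheaf) Γ((show X.Modules from F), ⊤) :=
    Module.compHom _ (evTop X)
  haveI : IsScalarTower (DerComp.GSec X.sheaf) Γ(X, ⊤) Γ((show X.Modules from F), ⊤) :=
    IsScalarTower.of_algebraMap_smul fun _ _ => rfl
  haveI : Module.Finite (DerComp.GSec X.sheaf) Γ(X, ⊤) :=
    Module.Finite.of_surjective (Algebra.linearMap _ _) bijective_evTop.2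
  haveI : Module.Finite (DerComp.GSec X.sheaf) Γ((show X.Modules from F), ⊤) :=
    Module.Finite.trans Γ(X, ⊤) _
  -- maps of modules into sections
  let ev : ((ModSite.unit X.sheaf) ⟶ F) →ₗ[DerComp.GSec X.sheaf] Γ((show X.Modules from F), ⊤) :=
    { toFun := fun f => (f.val.app (op ⊤)).hom (1 : (ModSite.ringSh X.sheaf).obj.obj (op ⊤))
      map_add' := fun f g => rfl
      map_smul' := fun s f => by
        rw [DerComp.smul_def, DerComp.smulEnd_comm]
        rfl }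
  have hev : Function.Injective ev := fun f g h => F.unitHomEquiv.injective (Subtype.ext (funext fun V => by
    have hf := (F.unitHomEquiv f).property (homOfLE (le_top : V.unop ≤ ⊤)).op
    have hg := (F.unitHomEquiv g).property (homOfLE (le_top : V.unop ≤ ⊤)).op
    exact hf.symm.trans ((congrArg (F.val.presheaf.map (homOfLE (le_top : V.unop ≤ ⊤)).op).hom h).trans hg)))
  haveI : Module.Finite (DerComp.GSec X.sheaf) ((ModSite.unit X.sheaf) ⟶ F) :=
    Module.Finite.of_injective ev hev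
  let j : ((ModSite.unit X.sheaf) ⟶ F) →ₗ[DerComp.GSec X.sheaf] H₀ (ModSite.unit X.sheaf) (𝟭 _) F :=
    { toFun := fun f => (DerivedCategory.singleFunctor (ModSite.Mod X.sheaf) 0).map f ≫
        (shiftFunctorZero (DerivedCategory (ModSite.Mod X.sheaf)) ℤ).inv.app _
      map_add' := fun f g => by rw [Functor.map_add, Preadditive.add_comp]
      map_smul' := fun s f => by rw [Functor.map_smul, Linear.smul_comp]; rfl }
  refine Module.Finite.of_surjective j fun y => ?_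
  obtain ⟨f, hf⟩ := (DerivedCategory.singleFunctor (ModSite.Mod X.sheaf) 0).map_surjective
    (y ≫ (shiftFunctorZero (DerivedCategory (ModSite.Mod X.sheaf)) ℤ).hom.app _)
  exact ⟨f, by
    show (DerivedCategory.singleFunctor (ModSite.Mod X.sheaf) 0).map f ≫ _ = y
    rw [hf, Category.assoc]
    exact (congrArg (y ≫ ·) (Iso.hom_inv_id_app _ _)).trans (Category.comp_id _)⟩

variable (𝓘 : DerComp.IdealSh X.sheaf) [DerComp.HasDerCompletion X.sheaf 𝓘]

/-- Derived completion as an endofunctor. -/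
noncomputable abbrev comp : DerivedCategory (ModSite.Mod X.sheaf) ⥤ DerivedCategory (ModSite.Mod X.sheaf) :=
  DerComp.derCompletion X.sheaf 𝓘 ⋙ (DerComp.IsDerComp X.sheaf 𝓘).ι

/-- The comparison on test groups. -/
noncomputable def toC (q : ℤ) (K : DerivedCategory (ModSite.Mod X.sheaf)) :
    (oX X ⟶ K⟦q⟧) →ₗ[DerComp.GSec X.sheaf] (oX X ⟶ ((comp 𝓘).obj K)⟦q⟧) :=
  pm (DerComp.GSec X.sheaf) (oX X) (DerComp.toDerCompletion 𝓘 K) q

theorem toC_naturality (q : ℤ) {K L : DerivedCategory (ModSite.Mod X.sheaf)} (f : K ⟶ L) :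
    toC 𝓘 q L ∘ₗ pm _ (oX X) f q = pm _ (oX X) ((comp 𝓘).map f) q ∘ₗ toC 𝓘 q K := by
  rw [toC, toC, pm_comp, pm_comp]
  exact congrArg (fun h => pm _ (oX X) h q) ((DerComp.derCompletionAdj X.sheaf 𝓘).unit.naturality f)

/-- Being the adic completion in degree `q`. -/
def Good (I : Ideal (DerComp.GSec X.sheaf)) (q : ℤ) (K : DerivedCategory (ModSite.Mod X.sheaf)) : Prop :=
  ModIso I (toC 𝓘 q K) ∧ Function.Bijective (AdicCompletion.of I (oX X ⟶ ((comp 𝓘).obj K)⟦q⟧))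

variable {I : Ideal (DerComp.GSec X.sheaf)} (h𝓘 : 𝓘.IsGenBy (fun a : I => (a : DerComp.GSec X.sheaf)))
variable [IsAffine X] [IsNoetherian X]

/-- Coherent modules, seen on the site. -/
abbrev CohP (X : Scheme.{u}) : ModSite.Mod X.sheaf → Prop := fun F => Coh.IsCoh (X := X) F

theorem hker {H H' : ModSite.Mod X.sheaf} (φ : H ⟶ H') (hH : CohP X H) (hH' : CohP X H') :
    CohP X (kernel φ) ∧ CohP X (cokernel φ) :=
  ⟨H10Coh.isCoh_kernel (X := X) φ hH hH'.1, H10Coh.isCoh_cokernel (X := X) φ hH.1 hH'⟩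

theorem hstab (s : DerComp.GSec X.sheaf) (H : ModSite.Mod X.sheaf) (hH : CohP X H) :
    ∃ N : ℕ, ∀ (Z : ModSite.Mod X.sheaf) (φ : Z ⟶ H), s ^ (N + 1) • φ = 0 → s ^ N • φ = 0 := by
  let ψ : (show X.Modules from H) ⟶ H := s • 𝟙 H
  obtain ⟨N, hN⟩ := exists_stable (show X.Modules from H) hH ψ
  refine ⟨N, fun Z φ hφ => ?_⟩
  let i := kernel.ι (s ^ (N + 1) • 𝟙 H)
  have h1 : i ≫ (s ^ N • 𝟙 H) = 0 := by
    refine hN _ (hker (s ^ (N + 1) • 𝟙 H) hH hH).1.1 (fun n => i ≫ (s ^ n • 𝟙 H)) (fun n => ?_) (kernel.condition _)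
    show i ≫ (s ^ (n + 1) • 𝟙 H) = (i ≫ (s ^ n • 𝟙 H)) ≫ (s • 𝟙 H)
    simp only [Linear.comp_smul, Category.comp_id, smul_smul, ← pow_succ']
  have : φ ≫ (s ^ N • 𝟙 H) = 0 := by
    rw [← kernel.lift_ι (s ^ (N + 1) • 𝟙 H) φ (by rw [Linear.comp_smul, Category.comp_id, hφ]), Category.assoc]
    exact (congrArg _ h1).trans comp_zero
  rwa [Linear.comp_smul, Category.comp_id] at this

include h𝓘

theorem exists_gens : ∃ l : List (DerComp.GSec X.sheaf), Ideal.ofList l = I := by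
  haveI : IsNoetherianRing Γ(X, ⊤) := IsLocallyNoetherian.component_noetherian ⟨⊤, isAffineOpen_top X⟩
  haveI : IsNoetherianRing (DerComp.GSec X.sheaf) :=
    isNoetherianRing_of_ringEquiv _ (RingEquiv.ofBijective (evTop X) bijective_evTop).symm
  obtain ⟨S, hS⟩ := (isNoetherianRing_iff_ideal_fg (DerComp.GSec X.sheaf)).1 ‹_› I
  exact ⟨S.toList, by rw [← hS]; simp [Ideal.ofList]⟩

theorem comp_scalar {s : DerComp.GSec X.sheaf} (hs : s ∈ I) (M : DerivedCategory (ModSite.Mod X.sheaf))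
    (hM : DerComp.IsDerComp X.sheaf 𝓘 M) (q : ℤ) :
    Comp (Preadditive.leftComp (M⟦q⟧) (s • 𝟙 (oX X))) :=
  comp_hom h𝓘 s hs M hM (oX X) q

theorem isDerComp_single_of_nil {H : ModSite.Mod X.sheaf} (l : Set (DerComp.GSec X.sheaf)) (hl : Ideal.span l = I)
    (hH : ∀ f ∈ l, Nil f H) :
    DerComp.IsDerComp X.sheaf 𝓘 ((DerivedCategory.singleFunctor (ModSite.Mod X.sheaf) 0).obj H) :=
  isDerComp_of_nilD h𝓘 l hl _ fun f hf => by
    obtain ⟨N, hN⟩ := hH f hf
    exact ⟨N, by rw [← CategoryTheory.Functor.map_id (DerivedCategory.singleFunctor (ModSite.Mod X.sheaf) 0),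
      ← Functor.map_smul, hN, Functor.map_zero]⟩

/-- Vanishing outside degree zero. -/
theorem van (H : ModSite.Mod X.sheaf) (hH : CohP X H) :
    Van (ModSite.unit X.sheaf) (DerComp.derCompletion X.sheaf 𝓘) H := by
  classical
  obtain ⟨l, hl⟩ := exists_gens 𝓘 h𝓘
  haveI := isClosedUnderIsomorphisms X.sheaf 𝓘
  haveI := isTriangulated X.sheaf 𝓘
  refine van_of_class (DerComp.derCompletionAdj X.sheaf 𝓘) (CohP X) l.toFinset hker
    (fun s _ H hH => hstab s H hH)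
    (fun H _ hH => isDerComp_single_of_nil 𝓘 h𝓘 {x | x ∈ l} hl fun f hf => hH f (List.mem_toFinset.2 hf))
    (fun H hH q hq => subsingleton_hom_unit (Y := X) H hH.1 q hq)
    (fun s hs M hM q => comp_scalar 𝓘 h𝓘 (hl ▸ Ideal.subset_span (List.mem_toFinset.1 hs)) M hM q) H hH

theorem nice_id : Nice (ModSite.unit X.sheaf) (𝟭 _) (CohP X) (DerComp.GSec X.sheaf) :=
  ⟨fun h => ⟨_, h⟩, fun _ _ => rfl, fun H hH q hq => subsingleton_hom_unit (Y := X) H hH.1 q hq⟩

theorem nice_comp : Nice (ModSite.unit X.sheaf) (comp 𝓘) (CohP X) (DerComp.GSec X.sheaf) :=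
  haveI := isClosedUnderIsomorphisms X.sheaf 𝓘
  haveI := isTriangulated X.sheaf 𝓘
  ⟨fun h => exists_refl_triangle (DerComp.derCompletionAdj X.sheaf 𝓘) h,
    fun s K => refl_map_smul (DerComp.derCompletionAdj X.sheaf 𝓘) s K, fun H hH => van 𝓘 h𝓘 H hH⟩

theorem bijective_toC_of_isDerComp (q : ℤ) {K : DerivedCategory (ModSite.Mod X.sheaf)}
    (hK : DerComp.IsDerComp X.sheaf 𝓘 K) : Function.Bijective (toC 𝓘 q K) := by
  haveI : IsIso (DerComp.toDerCompletion 𝓘 K) :=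
    inferInstanceAs (IsIso ((DerComp.derCompletionAdj X.sheaf 𝓘).unit.app ((DerComp.IsDerComp X.sheaf 𝓘).ι.obj ⟨K, hK⟩)))
  exact ((Iso.refl (oX X)).homCongr ((shiftFunctor _ q).mapIso (asIso (DerComp.toDerCompletion 𝓘 K)))).bijective
    |> fun h => by
      convert h using 1
      funext x
      simp [toC, pm_apply, Iso.homCongr]

theorem modIso_nil (F' : ModSite.Mod X.sheaf) (n : ℕ) (S : List (DerComp.GSec X.sheaf)) (hl : Ideal.ofList S = I ^ n)
    (hkill : ∀ f ∈ S, f • 𝟙 F' = 0) :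
    DerComp.IsDerComp X.sheaf 𝓘 ((DerivedCategory.singleFunctor (ModSite.Mod X.sheaf) 0).obj F') := by
  refine isDerComp_single_of_nil 𝓘 h𝓘 (I : Set (DerComp.GSec X.sheaf)) (Ideal.span_eq I) fun f hf => ⟨n, ?_⟩
  have hfn : f ^ n ∈ Ideal.ofList S := hl ▸ Ideal.pow_mem_pow hf n
  generalize f ^ n = y at hfn ⊢
  induction hfn using Submodule.span_induction with
  | mem x hx => exact hkill x hx
  | zero => exact zero_smul _ _
  | add x y _ _ hx hy => rw [add_smul, hx, hy, add_zero]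
  | smul r x _ hx => rw [smul_eq_mul, mul_smul, hx, smul_zero]

/-- The comparison modulo powers. -/
theorem modIso (F : ModSite.Mod X.sheaf) (hF : CohP X F) :
    ModIso I (toC 𝓘 0 ((DerivedCategory.singleFunctor (ModSite.Mod X.sheaf) 0).obj F)) := by
  intro n
  haveI : IsNoetherianRing Γ(X, ⊤) := IsLocallyNoetherian.component_noetherian ⟨⊤, isAffineOpen_top X⟩
  haveI : IsNoetherianRing (DerComp.GSec X.sheaf) :=
    isNoetherianRing_of_ringEquiv _ (RingEquiv.ofBijective (evTop X) bijective_evTop).symm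
  obtain ⟨S, hS⟩ := (isNoetherianRing_iff_ideal_fg (DerComp.GSec X.sheaf)).1 ‹_› (I ^ n)
  have hl : Ideal.ofList S.toList = I ^ n := by rw [← hS]; simp [Ideal.ofList]
  have hq := @exists_quot (DerComp.GSec X.sheaf) _ (ModSite.Mod X.sheaf) _ _ _ _ (ModSite.unit X.sheaf) (CohP X)
    (fun {H H'} φ a b => hker φ a b) S.toList F hF
  obtain ⟨F', π, -, hkill, hπ⟩ := hq
  have h1 := nice_id 𝓘 h𝓘 (X := X)
  have h2 := hπ (𝟭 _) h1
  have h3 := nice_comp 𝓘 h𝓘 (X := X)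
  have h4 := hπ (comp 𝓘) h3
  obtain ⟨hs₀, hk₀⟩ := h2
  obtain ⟨hs₁, hk₁⟩ := h4
  rw [hl] at hk₀ hk₁
  have hnil := modIso_nil 𝓘 h𝓘 F' n S.toList hl hkill
  exact mod_of_quot (I ^ n) (toC 𝓘 0 ((DerivedCategory.singleFunctor (ModSite.Mod X.sheaf) 0).obj F))
    (toC 𝓘 0 ((DerivedCategory.singleFunctor (ModSite.Mod X.sheaf) 0).obj F'))
    (toC_naturality 𝓘 0 ((DerivedCategory.singleFunctor (ModSite.Mod X.sheaf) 0).map π))
    hs₀ (bijective_toC_of_isDerComp 𝓘 h𝓘 0 hnil) hk₀ hk₁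

theorem nilpotent_smul {H : ModSite.Mod X.sheaf} (l : List (DerComp.GSec X.sheaf)) (hl : Ideal.ofList l = I)
    (hH : ∀ f ∈ l, Nil f H) : ∃ N : ℕ, ∀ a ∈ I ^ N, a • 𝟙 H = 0 := by
  classical
  let J : Ideal (DerComp.GSec X.sheaf) :=
    { carrier := {a | a • 𝟙 H = 0}
      add_mem' := fun {a b} ha hb => by show (a + b) • 𝟙 H = 0; rw [add_smul, ha, hb, add_zero]
      zero_mem' := zero_smul _ _
      smul_mem' := fun r a ha => by show (r * a) • 𝟙 H = 0; rw [mul_smul, ha, smul_zero] }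
  have hrad : I ≤ J.radical := by
    rw [← hl]
    exact Ideal.span_le.2 fun f hf => hH f hf
  obtain ⟨N, hN⟩ := Ideal.exists_pow_le_of_le_radical_of_fg hrad ⟨l.toFinset, by rw [← hl]; simp [Ideal.ofList]⟩
  exact ⟨N, fun a ha => hN ha⟩

/-- Completeness of the sections. -/
abbrev Cpl (I : Ideal (DerComp.GSec X.sheaf)) (H : ModSite.Mod X.sheaf) : Prop :=
  Function.Bijective (AdicCompletion.of I (H₀ (ModSite.unit X.sheaf) (comp 𝓘) H))

theorem cpl_nil (l : List (DerComp.GSec X.sheaf)) (hl : Ideal.ofList l = I) (H : ModSite.Mod X.sheaf)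
    (hall : ∀ f ∈ l, Nil f H) : Cpl 𝓘 I H := by
  obtain ⟨N, hN'⟩ := nilpotent_smul 𝓘 h𝓘 l hl hall
  refine bijective_of_killed (N := N) fun a ha y => ?_
  have h := LinearMap.congr_fun ((nice_comp 𝓘 h𝓘).Hm_smul_id a H) y
  rw [hN' a ha] at h
  refine Eq.trans h.symm ?_
  show Hm (DerComp.GSec X.sheaf) (ModSite.unit X.sheaf) (comp 𝓘) (0 : H ⟶ H) y = 0
  simp [Hm, pm]
  exact comp_zero (f := y)

theorem cpl_ext (T : ShortComplex (ModSite.Mod X.sheaf)) (hT : T.ShortExact) (h1 : CohP X T.X₁) (h2 : CohP X T.X₂)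
    (h3 : CohP X T.X₃) (b1 : Cpl 𝓘 I T.X₁) (b3 : Cpl 𝓘 I T.X₃) : Cpl 𝓘 I T.X₂ := by
  haveI : IsNoetherianRing Γ(X, ⊤) := IsLocallyNoetherian.component_noetherian ⟨⊤, isAffineOpen_top X⟩
  haveI : IsNoetherianRing (DerComp.GSec X.sheaf) :=
    isNoetherianRing_of_ringEquiv _ (RingEquiv.ofBijective (evTop X) bijective_evTop).symm
  haveI := finite_H₀ T.X₂ h2
  obtain ⟨hf, hfg, hg⟩ := (nice_id 𝓘 h𝓘).short hT h1 h3
  obtain ⟨-, hfg', hg'⟩ := (nice_comp 𝓘 h𝓘).short hT h1 h3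
  exact bijective_of_short hf hfg hg hfg' hg'
    (toC_naturality 𝓘 0 ((DerivedCategory.singleFunctor (ModSite.Mod X.sheaf) 0).map T.f))
    (toC_naturality 𝓘 0 ((DerivedCategory.singleFunctor (ModSite.Mod X.sheaf) 0).map T.g))
    (modIso 𝓘 h𝓘 T.X₁ h1) (modIso 𝓘 h𝓘 T.X₂ h2) (modIso 𝓘 h𝓘 T.X₃ h3) b1 b3

theorem cpl_inj {s : DerComp.GSec X.sheaf} (hsI : s ∈ I) (H : ModSite.Mod X.sheaf) (hH : CohP X H)
    (hm : Mono (s • 𝟙 H)) (bQ : Cpl 𝓘 I (cokernel (s • 𝟙 H))) : Cpl 𝓘 I H := by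
  haveI : IsNoetherianRing Γ(X, ⊤) := IsLocallyNoetherian.component_noetherian ⟨⊤, isAffineOpen_top X⟩
  haveI : IsNoetherianRing (DerComp.GSec X.sheaf) :=
    isNoetherianRing_of_ringEquiv _ (RingEquiv.ofBijective (evTop X) bijective_evTop).symm
  haveI := finite_H₀ H hH
  let T : ShortComplex (ModSite.Mod X.sheaf) :=
      ShortComplex.mk (s • 𝟙 H) (cokernel.π _) (cokernel.condition _)
  have hT : T.ShortExact := { exact := ShortComplex.exact_cokernel (s • 𝟙 H) }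
  have hQ := (hker (s • 𝟙 H) hH hH).2
  obtain ⟨hf, hfg, hg⟩ := (nice_id 𝓘 h𝓘).short hT hH hQ
  obtain ⟨-, hfg', hg'⟩ := (nice_comp 𝓘 h𝓘).short hT hH hQ
  rw [show T.f = s • 𝟙 H from rfl, (nice_id 𝓘 h𝓘).Hm_smul_id] at hf hfg
  rw [show T.f = s • 𝟙 H from rfl, (nice_comp 𝓘 h𝓘).Hm_smul_id] at hfg'
  have hc : Comp (DistribSMul.toAddMonoidHom (H₀ (ModSite.unit X.sheaf) (comp 𝓘) H) s) := by
    have h := comp_scalar 𝓘 h𝓘 hsI ((comp 𝓘).obj ((DerivedCategory.singleFunctor (ModSite.Mod X.sheaf) 0).obj H))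
      ((DerComp.derCompletion X.sheaf 𝓘).obj _).property 0
    refine (comp_iff_of_equiv (AddEquiv.refl _) fun y => ?_).1 h
    show (s • 𝟙 (oX X)) ≫ y = s • y
    rw [Linear.smul_comp, Category.id_comp]
  exact bijective_of_torsionFree (M := H₀ (ModSite.unit X.sheaf) (𝟭 _) H) (G := H₀ (ModSite.unit X.sheaf) (comp 𝓘) H)
    (Q := H₀ (ModSite.unit X.sheaf) (𝟭 _) T.X₃) (GQ := H₀ (ModSite.unit X.sheaf) (comp 𝓘) T.X₃)
    (π := Hm (DerComp.GSec X.sheaf) (ModSite.unit X.sheaf) (comp 𝓘) T.g)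
    (ρ := Hm (DerComp.GSec X.sheaf) (ModSite.unit X.sheaf) (𝟭 _) T.g)
    hsI (modIso 𝓘 h𝓘 H hH) hf hc
    (fun y hy => by obtain ⟨y', hy'⟩ := (hfg' y).1 hy; exact ⟨y', hy'.symm⟩) hg'
    (fun y => (hfg' _).2 ⟨y, rfl⟩) (modIso 𝓘 h𝓘 T.X₃ hQ)
    (toC_naturality 𝓘 0 ((DerivedCategory.singleFunctor (ModSite.Mod X.sheaf) 0).map T.g)) hfg hg bQ

/-- The derived completion of a coherent module has the adic completion as sections. -/
theorem good (F : ModSite.Mod X.sheaf) (hF : CohP X F) :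
    Good 𝓘 I 0 ((DerivedCategory.singleFunctor (ModSite.Mod X.sheaf) 0).obj F) := by
  classical
  refine ⟨modIso 𝓘 h𝓘 F hF, ?_⟩
  obtain ⟨l, hl⟩ := exists_gens 𝓘 h𝓘
  exact class_induction (CohP X) l.toFinset (Cpl 𝓘 I) hker (fun s _ H hH => hstab s H hH)
    (fun H _ hall => cpl_nil 𝓘 h𝓘 l hl H fun f hf => hall f (List.mem_toFinset.2 hf))
    (fun T hT h1 h2 h3 => cpl_ext 𝓘 h𝓘 T hT h1 h2 h3)
    (fun s hs H hH hm => cpl_inj 𝓘 h𝓘 (hl ▸ Ideal.subset_span (List.mem_toFinset.1 hs)) H hH hm) F hF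

end Groth.Agent.H16Derived.DerCohAdic
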