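import Groth.Agent.H16Derived.DerCohAdic.Trans
import Groth.Agent.H16Derived.DerCohAdic.Module
import Groth.Agent.H16Derived.DTrunc
import Groth.Agent.H16Derived.QCohD.HomVanish
import Groth.Agent.H16Derived.Dual.PseudoCoh
import Groth.Agent.H16Derived.Thomason.Approx
import Groth.Agent.H17.FourierMukai.FlatKernel

/-!
# The derived completion of a pseudo-coherent object on an affine scheme
-/

set_option autoImplicit false
set_option linter.style.haveILetI false
set_option linter.unusedSectionVars false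
set_option backward.isDefEq.respectTransparency false

universe u

open CategoryTheory CategoryTheory.Limits CategoryTheory.Pretriangulated CategoryTheory.Triangulated
open Opposite TopologicalSpace AlgebraicGeometry

namespace Groth.Agent.H16Derived.DerCohAdic

open DerCompLib H15Site DerCohVanish DerivedCategory.TStructure

attribute [local instance] HasDerivedCategory.standard
attribute [local instance 10000] SiteInst.hasSheafifySite SiteInst.hasWeakSheafifySite
attribute [local instance] shiftAdditive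

variable {X : Scheme.{u}}

theorem isCohD_truncGE [IsLocallyNoetherian X] (L : DCoh.D X) (hL : DCoh.IsCohD L) (n : ℤ) :
    DCoh.IsCohD ((t.truncGE n).obj L) := fun i => by
  rcases le_or_gt n i with h | h
  · haveI := DTrunc.isIso_homology_truncGEπ L n i h
    exact H10Coh.isCoh_of_iso (asIso ((DerivedCategory.homologyFunctor X.Modules i).map ((t.truncGEπ n).app L))) (hL i)
  · haveI : DerivedCategory.IsGE ((t.truncGE n).obj L) n := inferInstanceAs (t.IsGE _ n)
    exact Dual.isCoh_isZero (DerivedCategory.isZero_of_isGE _ n i h)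

theorem isCohD_truncLT [IsLocallyNoetherian X] (L : DCoh.D X) (hL : DCoh.IsCohD L) (n : ℤ) :
    DCoh.IsCohD ((t.truncLT n).obj L) := fun i => by
  rcases lt_or_ge i n with h | h
  · haveI := DTrunc.isIso_homology_truncLTι L n i h
    exact H10Coh.isCoh_of_iso (asIso ((DerivedCategory.homologyFunctor X.Modules i).map ((t.truncLTι n).app L))).symm (hL i)
  · haveI : DerivedCategory.IsLE ((t.truncLT n).obj L) (n - 1) := inferInstanceAs (t.IsLE _ (n - 1))
    exact Dual.isCoh_isZero (DerivedCategory.isZero_of_isLE _ (n - 1) i (by omega))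

/-- An object with one coherent cohomology is a shifted coherent module. -/
theorem exists_single [IsLocallyNoetherian X] (L : DCoh.D X) (hL : DCoh.IsCohD L) (m : ℤ) [L.IsGE m] [L.IsLE m] :
    ∃ F : X.Modules, Coh.IsCoh F ∧ Nonempty (L ≅ ((DerivedCategory.singleFunctor X.Modules 0).obj F)⟦-m⟧) := by
  obtain ⟨F, ⟨e⟩⟩ := L.exists_iso_singleFunctor_obj_of_isGE_of_isLE m
  refine ⟨F, ?_, ⟨e ≪≫ (((DerivedCategory.singleFunctors X.Modules).shiftIso (-m) m 0 (by omega)).app F).symm⟩⟩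
  exact H10Coh.isCoh_of_iso ((DerivedCategory.homologyFunctor X.Modules m).mapIso e ≪≫
    (DerivedCategory.singleFunctorCompHomologyFunctorIso X.Modules m).app F) (hL m)

variable [IsAffine X] [IsNoetherian X]

/-- Vanishing above the top cohomology. -/
theorem subsingleton_hom_of_le (L : DerivedCategory (ModSite.Mod X.sheaf)) (hL : DCoh.IsQCohD (X := X) L) (m : ℤ) [L.IsLE m] (q : ℤ) (hq : m < q) :
    Subsingleton (oX X ⟶ L⟦q⟧) := by
  have hLE : t.IsLE (L⟦q⟧) (m - q) := t.isLE_shift L m q (m - q) (by omega)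
  let e : (DerivedCategory.singleFunctor X.Modules 0).obj (H10Coh.freeSh (⊤ : X.Opens)) ≅ oX X :=
    (DerivedCategory.singleFunctor X.Modules 0).mapIso QCohD.freeShTopIso
  refine subsingleton_of_forall_eq 0 fun φ => (cancel_epi e.hom).1 ?_
  rw [comp_zero]
  haveI : (L⟦q⟧).IsLE (m - q) := hLE
  exact (QCohD.bijective_θ_affine (QCohD.HomVanish.isQCohD_shift hL q) (isAffineOpen_top X) 0).1
    ((DerivedCategory.isZero_of_isLE (L⟦q⟧) (m - q) 0 (by omega)).eq_of_tgt _ _)

/-- Vanishing below the bottom cohomology. -/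
theorem subsingleton_hom_of_ge (L : DerivedCategory (ModSite.Mod X.sheaf)) (m : ℤ) [L.IsGE m] (q : ℤ) (hq : q < m) :
    Subsingleton (oX X ⟶ L⟦q⟧) := by
  haveI : (L⟦q⟧).IsGE (m - q) := t.isGE_shift L m q (m - q) (by omega)
  exact subsingleton_of_forall_eq 0 fun f =>
    DerivedCategory.TStructure.t.zero_of_isLE_of_isGE f 0 (m - q) (by omega) inferInstance ‹_›

variable (𝓘 : DerComp.IdealSh X.sheaf) [DerComp.HasDerCompletion X.sheaf 𝓘]
  {I : Ideal (DerComp.GSec X.sheaf)} (h𝓘 : 𝓘.IsGenBy (fun a : I => (a : DerComp.GSec X.sheaf)))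

include h𝓘

/-- Vanishing above the top cohomology after completion. -/
theorem subsingleton_comp_of_le (L : DerivedCategory (ModSite.Mod X.sheaf)) (hL : DCoh.IsQCohD (X := X) L) (m : ℤ) [L.IsLE m] (q : ℤ) (hq : m < q) :
    Subsingleton (oX X ⟶ ((comp 𝓘).obj L)⟦q⟧) := by
  haveI := isTriangulated X.sheaf 𝓘
  obtain ⟨l, hl⟩ := exists_gens 𝓘 h𝓘
  let u₀ := (CochainComplex.singleFunctor (ModSite.Mod X.sheaf) 0).obj (ModSite.unit X.sheaf)
  let e : DerivedCategory.Q.obj u₀ ≅ oX X :=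
    Iso.refl _
  have hP : ∀ M, DerComp.IsDerComp X.sheaf 𝓘 M → ∀ k : ℤ, DerComp.IsDerComp X.sheaf 𝓘 (M⟦k⟧) :=
    fun M hM k => (DerComp.IsDerComp X.sheaf 𝓘).le_shift k M hM
  have h := subsingleton_refl (R := DerComp.GSec X.sheaf) hP (DerComp.derCompletionAdj X.sheaf 𝓘) l
    (fun f hf M hM Y k => comp_hom h𝓘 f (hl ▸ Ideal.subset_span hf) M hM Y k)
    (fun B hB => isDerComp_of_nilD h𝓘 {x | x ∈ l} hl B hB) u₀ L m
    (fun k hk => (e.symm.homFromEquiv (Z := L⟦k⟧)).subsingleton_congr.1 (subsingleton_hom_of_le L hL m k hk)) q hq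
  exact (e.homFromEquiv (Z := ((comp 𝓘).obj L)⟦q⟧)).subsingleton_congr.1 h

theorem nice_lin (L : DerivedCategory (ModSite.Mod X.sheaf)) (hL : IsZero L) : IsZero ((comp 𝓘).obj L) := by
  rw [IsZero.iff_id_eq_zero, ← zero_smul (DerComp.GSec X.sheaf) (𝟙 ((comp 𝓘).obj L)),
    ← (nice_comp 𝓘 h𝓘).lin, zero_smul, ← (IsZero.iff_id_eq_zero L).1 hL]
  exact (CategoryTheory.Functor.map_id _ L).symm

/-- Vanishing for shifted modules after completion. -/
theorem subsingleton_comp_single (F : ModSite.Mod X.sheaf) (hF : CohP X F) (n q : ℤ) (h : n + q ≠ 0) :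
    Subsingleton (oX X ⟶ ((comp 𝓘).obj (((DerivedCategory.singleFunctor (ModSite.Mod X.sheaf) 0).obj F)⟦n⟧))⟦q⟧) := by
  haveI := isClosedUnderIsomorphisms X.sheaf 𝓘
  haveI := isTriangulated X.sheaf 𝓘
  obtain ⟨e, -⟩ := exists_refl_shift (DerComp.derCompletionAdj X.sheaf 𝓘)
    ((DerivedCategory.singleFunctor (ModSite.Mod X.sheaf) 0).obj F) n
  exact (((shiftFunctor (DerivedCategory (ModSite.Mod X.sheaf)) q).mapIso e ≪≫
    ((shiftFunctorAdd' (DerivedCategory (ModSite.Mod X.sheaf)) n q (n + q) rfl).app _).symm).homToEquiv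
      (Z := oX X)).subsingleton_congr.2 (van 𝓘 h𝓘 F hF (n + q) h)

/-- Vanishing below the bottom cohomology after completion. -/
theorem subsingleton_comp_of_ge (N : ℕ) : ∀ (L : DerivedCategory (ModSite.Mod X.sheaf)), DCoh.IsCohD (X := X) L → ∀ (m : ℤ), L.IsGE m →
    L.IsLE (m + N - 1) → ∀ q : ℤ, q < m → Subsingleton (oX X ⟶ ((comp 𝓘).obj L)⟦q⟧) := by
  induction N with
  | zero =>
    intro L _ m hGE hLE q _
    haveI : t.IsGE L m := hGE
    haveI : t.IsLE L (m + ((0 : ℕ) : ℤ) - 1) := hLE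
    have hz : IsZero L := t.isZero L (m + ((0 : ℕ) : ℤ) - 1) m (by omega)
    have h := ((shiftFunctor (DerivedCategory (ModSite.Mod X.sheaf)) q).map_isZero (nice_lin 𝓘 h𝓘 L hz))
    exact ⟨fun a b => h.eq_of_tgt a b⟩
  | succ N ih =>
    intro L hc m hGE hLE q hq
    let T := (t.triangleLTGE (m + 1)).obj L
    have hT : T ∈ distTriang (DerivedCategory (ModSite.Mod X.sheaf)) := t.triangleLTGE_distinguished (m + 1) L
    haveI : L.IsGE m := hGE
    haveI : L.IsLE (m + ((N + 1 : ℕ) : ℤ) - 1) := hLE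
    obtain ⟨d', hT'⟩ := (nice_comp 𝓘 h𝓘).tri hT
    refine subsingleton_obj₂ hT' _ q ?_ ?_
    · haveI : DerivedCategory.IsGE T.obj₁ m := DTrunc.isGE_truncLT L (m + 1) m
      haveI : DerivedCategory.IsLE T.obj₁ m := inferInstanceAs (t.IsLE ((t.truncLT (m + 1)).obj L) m)
      obtain ⟨F, hF, ⟨e⟩⟩ := exists_single T.obj₁ (isCohD_truncLT L hc (m + 1)) m
      exact (((shiftFunctor _ q).mapIso ((comp 𝓘).mapIso e)).homToEquiv (Z := oX X)).subsingleton_congr.2
        (subsingleton_comp_single 𝓘 h𝓘 F hF (-m) q (by omega))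
    · refine ih T.obj₃ (isCohD_truncGE L hc (m + 1)) (m + 1) ?_ ?_ q (by omega)
      · exact inferInstanceAs (t.IsGE ((t.truncGE (m + 1)).obj L) (m + 1))
      · have h := DTrunc.isLE_truncGE L (m + 1) (m + ((N + 1 : ℕ) : ℤ) - 1)
        rwa [show m + 1 + (N : ℤ) - 1 = m + ((N + 1 : ℕ) : ℤ) - 1 by omega]

/-- The completion of a pseudo-coherent object in degree `p`. -/
theorem good_pc (K : DerivedCategory (ModSite.Mod X.sheaf)) (hK : ∀ m : ℤ, DCoh.IsPseudoCoherentD (X := X) m K) (p : ℤ) :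
    GoodAt (DerComp.GSec X.sheaf) I (oX X) (DerComp.derCompletionAdj X.sheaf 𝓘).unit p K := by
  haveI := isClosedUnderIsomorphisms X.sheaf 𝓘
  haveI := isTriangulated X.sheaf 𝓘
  have hc : DCoh.IsCohD (X := X) K := H17.FourierMukai.isCohD_of_pc hK
  obtain ⟨b, hb⟩ := Thomason.exists_isLE_of_pc (hK 0)
  haveI : K.IsLE b := hb
  -- forget the cohomology above `p`
  let T := (t.triangleLTGE (p + 1)).obj K
  have hT : T ∈ distTriang (DerivedCategory (ModSite.Mod X.sheaf)) := t.triangleLTGE_distinguished (p + 1) K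
  obtain ⟨d, hTc⟩ := (nice_comp 𝓘 h𝓘).tri hT
  have hc₁ : DCoh.IsCohD (X := X) T.obj₁ := isCohD_truncLT K hc (p + 1)
  have hc₃ : DCoh.IsCohD (X := X) T.obj₃ := isCohD_truncGE K hc (p + 1)
  haveI : DerivedCategory.IsGE T.obj₃ (p + 1) := inferInstanceAs (t.IsGE ((t.truncGE (p + 1)).obj K) (p + 1))
  haveI : DerivedCategory.IsLE T.obj₃ b := DTrunc.isLE_truncGE K (p + 1) b
  haveI : t.IsLE T.obj₃ b := inferInstanceAs (DerivedCategory.IsLE T.obj₃ b)
  have h3 : ∀ q : ℤ, q < p + 1 → Subsingleton (oX X ⟶ ((comp 𝓘).obj T.obj₃)⟦q⟧) := fun q hq =>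
    subsingleton_comp_of_ge 𝓘 h𝓘 (b - p).toNat T.obj₃ hc₃ (p + 1) inferInstance
      (t.isLE_of_le T.obj₃ b _ (by omega)) q hq
  refine (GoodAt.of_bijective T.mor₁
    (bijective_pm₁ hT (subsingleton_hom_of_ge T.obj₃ (p + 1) (p - 1) (by omega))
      (subsingleton_hom_of_ge T.obj₃ (p + 1) p (by omega)))
    (bijective_pm₁ hTc (h3 (p - 1) (by omega)) (h3 p (by omega)))).1 ?_
  -- forget the cohomology below `p`
  haveI : DerivedCategory.IsLE T.obj₁ p := inferInstanceAs (t.IsLE ((t.truncLT (p + 1)).obj K) p)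
  let S := (t.triangleLTGE p).obj T.obj₁
  have hS : S ∈ distTriang (DerivedCategory (ModSite.Mod X.sheaf)) := t.triangleLTGE_distinguished p T.obj₁
  obtain ⟨d', hSc⟩ := (nice_comp 𝓘 h𝓘).tri hS
  haveI : DerivedCategory.IsLE S.obj₁ (p - 1) := inferInstanceAs (t.IsLE ((t.truncLT p).obj T.obj₁) (p - 1))
  have hq₁ : DCoh.IsQCohD (X := X) S.obj₁ := fun i => (isCohD_truncLT T.obj₁ hc₁ p i).1
  refine (GoodAt.of_bijective S.mor₂
    (bijective_pm₂ hS (subsingleton_hom_of_le S.obj₁ hq₁ (p - 1) p (by omega))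
      (subsingleton_hom_of_le S.obj₁ hq₁ (p - 1) (p + 1) (by omega)))
    (bijective_pm₂ hSc (subsingleton_comp_of_le 𝓘 h𝓘 S.obj₁ hq₁ (p - 1) p (by omega))
      (subsingleton_comp_of_le 𝓘 h𝓘 S.obj₁ hq₁ (p - 1) (p + 1) (by omega)))).2 ?_
  -- a single coherent module
  haveI : DerivedCategory.IsGE S.obj₃ p := inferInstanceAs (t.IsGE ((t.truncGE p).obj T.obj₁) p)
  haveI : DerivedCategory.IsLE S.obj₃ p := DTrunc.isLE_truncGE T.obj₁ p p
  obtain ⟨F, hF, ⟨e⟩⟩ := exists_single S.obj₃ (isCohD_truncGE T.obj₁ hc₁ p) p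
  obtain ⟨e', he'⟩ := exists_refl_shift (DerComp.derCompletionAdj X.sheaf 𝓘)
    ((DerivedCategory.singleFunctor (ModSite.Mod X.sheaf) 0).obj F) (-p)
  exact (GoodAt.of_iso e).2 (GoodAt.of_shift (show -p + p = 0 by omega) e' he' (good 𝓘 h𝓘 F hF))

end Groth.Agent.H16Derived.DerCohAdic
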