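import Groth.Agent.H16Derived.DerCohVanish.Abstract
import Groth.Agent.H16Derived.DerComp.Null.Tri

/-!
# Exact sequences of Hom groups
-/

set_option autoImplicit false
set_option linter.style.haveILetI false
set_option linter.unusedSectionVars false
set_option backward.isDefEq.respectTransparency false

universe w v u r

open CategoryTheory CategoryTheory.Limits CategoryTheory.Pretriangulated

namespace Groth.Agent.H16Derived.DerCohAdic

variable {R : Type r} [CommRing R] {A : Type u} [Category.{v} A] [Abelian A] [Linear R A]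
  [HasDerivedCategory.{w} A]

variable (R) in
/-- Postcomposition with a shifted map. -/
noncomputable def pm (U : DerivedCategory A) {X Y : DerivedCategory A} (f : X ⟶ Y) (q : ℤ) :
    (U ⟶ X⟦q⟧) →ₗ[R] (U ⟶ Y⟦q⟧) :=
  Linear.rightComp R U ((shiftFunctor (DerivedCategory A) q).map f)

theorem pm_apply (U : DerivedCategory A) {X Y : DerivedCategory A} (f : X ⟶ Y) (q : ℤ) (x : U ⟶ X⟦q⟧) :
    pm R U f q x = x ≫ f⟦q⟧' := rfl

theorem pm_comp (U : DerivedCategory A) {X Y Z : DerivedCategory A} (f : X ⟶ Y) (g : Y ⟶ Z) (q : ℤ) :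
    pm R U g q ∘ₗ pm R U f q = pm R U (f ≫ g) q := by
  refine LinearMap.ext fun x => ?_
  rw [LinearMap.comp_apply, pm_apply, pm_apply, pm_apply, Functor.map_comp, Category.assoc]

theorem pm_smul_id (U X : DerivedCategory A) (s : R) (q : ℤ) :
    pm R U (s • 𝟙 X) q = s • LinearMap.id := by
  refine LinearMap.ext fun x => ?_
  rw [pm_apply, Functor.map_smul, CategoryTheory.Functor.map_id, Linear.comp_smul, Category.comp_id]
  rfl

variable {T : Triangle (DerivedCategory A)} (hT : T ∈ distTriang (DerivedCategory A)) (U : DerivedCategory A) (q : ℤ)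

include hT

theorem exact_pm : Function.Exact (pm R U T.mor₁ q) (pm R U T.mor₂ q) := by
  intro x
  constructor
  · intro hx
    obtain ⟨y, hy⟩ := Triangle.coyoneda_exact₂ _ (Triangle.shift_distinguished T hT q) x (by
      show x ≫ (q.negOnePow • T.mor₂⟦q⟧') = 0
      rw [Linear.comp_units_smul, show x ≫ T.mor₂⟦q⟧' = 0 from hx, smul_zero])
    change x = y ≫ (q.negOnePow • T.mor₁⟦q⟧') at hy
    refine ⟨(q.negOnePow : ℤ) • y, ?_⟩
    rw [hy, pm_apply, Preadditive.zsmul_comp, Units.smul_def, Preadditive.comp_zsmul]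
  · rintro ⟨y, rfl⟩
    rw [pm_apply, pm_apply, Category.assoc, ← Functor.map_comp, comp_distTriang_mor_zero₁₂ T hT, Functor.map_zero,
      comp_zero]

theorem surjective_pm₁ (h₃ : Subsingleton (U ⟶ T.obj₃⟦q⟧)) : Function.Surjective (pm R U T.mor₁ q) := fun x => by
  obtain ⟨y, hy⟩ := DerCohVanish.exists_lift₂ hT U q h₃ x
  exact ⟨y, hy.symm⟩

theorem surjective_pm₂ (h₁ : Subsingleton (U ⟶ T.obj₁⟦q + 1⟧)) : Function.Surjective (pm R U T.mor₂ q) :=
  surjective_pm₁ (T := T.rotate) (rot_of_distTriang _ hT) U q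
    (DerCompLib.Null.subsingleton_shift_congr (add_comm 1 q) h₁)

theorem injective_pm₁ (h₃ : Subsingleton (U ⟶ T.obj₃⟦q - 1⟧)) : Function.Injective (pm R U T.mor₁ q) := by
  refine (injective_iff_map_eq_zero _).2 fun x hx => ?_
  obtain ⟨y, rfl⟩ := (exact_pm (R := R) (T := T.invRotate) (inv_rot_of_distTriang _ hT) U q x).1 hx
  haveI : Subsingleton (U ⟶ (T.invRotate.obj₁)⟦q⟧) :=
    DerCompLib.Null.subsingleton_shift_congr (show (-1 : ℤ) + q = q - 1 by omega) h₃
  rw [Subsingleton.elim (α := U ⟶ (T.invRotate.obj₁)⟦q⟧) y 0, map_zero]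

end Groth.Agent.H16Derived.DerCohAdic
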