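import Groth.Agent.H16Derived.DerCohAdic.Seq
import Groth.Agent.H16Derived.DerCohAdic.Algebra

/-!
# Transport of the completion property along shifts and triangles
-/

set_option autoImplicit false
set_option linter.style.haveILetI false
set_option linter.unusedSectionVars false
set_option backward.isDefEq.respectTransparency false

universe w v u r

open CategoryTheory CategoryTheory.Limits CategoryTheory.Pretriangulated

namespace Groth.Agent.H16Derived.DerCohAdic

section Algebra

variable {R : Type r} [CommRing R] {I : Ideal R} {M G M' G' : Type v} [AddCommGroup M] [Module R M]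
  [AddCommGroup G] [Module R G] [AddCommGroup M'] [Module R M'] [AddCommGroup G'] [Module R G']

theorem smul_top_mem_equiv (e : M ≃ₗ[R] M') (J : Ideal R) (x : M) :
    e x ∈ (J • ⊤ : Submodule R M') ↔ x ∈ (J • ⊤ : Submodule R M) := by
  have h : (J • ⊤ : Submodule R M').comap e.toLinearMap = (J • ⊤ : Submodule R M) := by
    rw [Submodule.comap_equiv_eq_map_symm, Submodule.map_smul'', Submodule.map_top, LinearEquiv.range]
  rw [← h]
  rfl

/-- Transport of `ModIso` and completeness along equivalences. -/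
theorem good_of_equiv {φ : M →ₗ[R] G} {φ' : M' →ₗ[R] G'} (e : M ≃ₗ[R] M') (e' : G ≃ₗ[R] G')
    (c : ∀ x, φ' (e x) = e' (φ x)) (h : ModIso I φ ∧ Function.Bijective (AdicCompletion.of I G)) :
    ModIso I φ' ∧ Function.Bijective (AdicCompletion.of I G') := by
  refine ⟨fun n => ⟨fun y => ?_, fun x hx => ?_⟩, ?_⟩
  · obtain ⟨x, hx⟩ := (h.1 n).1 (e'.symm y)
    exact ⟨e x, by rw [c, ← e'.apply_symm_apply y, ← map_sub]; exact (smul_top_mem_equiv e' _ _).2 hx⟩
  · obtain ⟨x, rfl⟩ := e.surjective x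
    rw [c, smul_top_mem_equiv e'] at hx
    exact (smul_top_mem_equiv e _ _).2 ((h.1 n).2 x hx)
  · have hsq : ∀ x : G, AdicCompletion.map I e'.toLinearMap (AdicCompletion.of I G x) =
        AdicCompletion.of I G' (e' x) := fun x => AdicCompletion.map_of I e'.toLinearMap x
    have hb : Function.Bijective (AdicCompletion.map I e'.toLinearMap) := (AdicCompletion.congr I e').bijective
    have : ⇑(AdicCompletion.of I G') = ⇑(AdicCompletion.map I e'.toLinearMap) ∘ ⇑(AdicCompletion.of I G) ∘ ⇑e'.symm := by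
      funext y
      show _ = AdicCompletion.map I e'.toLinearMap (AdicCompletion.of I G (e'.symm y))
      rw [hsq, e'.apply_symm_apply]
    rw [this]
    exact hb.comp (h.2.comp e'.symm.bijective)

end Algebra

variable {R : Type r} [CommRing R] {A : Type u} [Category.{v} A] [Abelian A] [Linear R A]
  [HasDerivedCategory.{w} A]

/-- Postcomposition with an isomorphism. -/
noncomputable def postEquiv (U : DerivedCategory A) {Z Z' : DerivedCategory A} (e : Z ≅ Z') : (U ⟶ Z) ≃ₗ[R] (U ⟶ Z') :=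
  Linear.homCongr R (Iso.refl U) e

theorem postEquiv_apply (U : DerivedCategory A) {Z Z' : DerivedCategory A} (e : Z ≅ Z') (x : U ⟶ Z) :
    postEquiv (R := R) U e x = x ≫ e.hom := by
  simp [postEquiv, Linear.homCongr_apply]

variable (R) in
/-- The property of being the completion, for a natural transformation `η`. -/
def GoodAt (I : Ideal R) (U : DerivedCategory A) {Ψ : DerivedCategory A ⥤ DerivedCategory A}
    (η : 𝟭 (DerivedCategory A) ⟶ Ψ) (q : ℤ) (X : DerivedCategory A) : Prop :=
  ModIso I (pm R U (η.app X) q) ∧ Function.Bijective (AdicCompletion.of I (U ⟶ (Ψ.obj X)⟦q⟧))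

variable {I : Ideal R} {U : DerivedCategory A} {Ψ : DerivedCategory A ⥤ DerivedCategory A}
  {η : 𝟭 (DerivedCategory A) ⟶ Ψ} {q : ℤ}

theorem GoodAt.of_bijective {X Y : DerivedCategory A} (f : X ⟶ Y)
    (h₀ : Function.Bijective (pm R U f q)) (h₁ : Function.Bijective (pm R U (Ψ.map f) q)) :
    GoodAt R I U η q X ↔ GoodAt R I U η q Y := by
  have hc : ∀ x, pm R U (η.app Y) q (pm R U f q x) = pm R U (Ψ.map f) q (pm R U (η.app X) q x) := fun x => by
    show (pm R U (η.app Y) q ∘ₗ pm R U f q) x = (pm R U (Ψ.map f) q ∘ₗ pm R U (η.app X) q) x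
    rw [pm_comp, pm_comp]
    exact congrArg (fun h => pm R U h q x) (η.naturality f)
  let e := LinearEquiv.ofBijective _ h₀
  let e' := LinearEquiv.ofBijective _ h₁
  refine ⟨good_of_equiv e e' hc, good_of_equiv e.symm e'.symm fun x => ?_⟩
  obtain ⟨x, rfl⟩ := e.surjective x
  erw [e.symm_apply_apply]; rw [show pm R U (η.app Y) q (e x) = e' (pm R U (η.app X) q x) from hc x, e'.symm_apply_apply]

theorem GoodAt.of_iso {X Y : DerivedCategory A} (f : X ≅ Y) : GoodAt R I U η q X ↔ GoodAt R I U η q Y := by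
  refine GoodAt.of_bijective f.hom ?_ ?_
  · convert (postEquiv (R := R) U ((shiftFunctor (DerivedCategory A) q).mapIso f)).bijective using 1
    funext x
    rw [postEquiv_apply]; rfl
  · convert (postEquiv (R := R) U ((shiftFunctor (DerivedCategory A) q).mapIso (Ψ.mapIso f))).bijective using 1
    funext x
    rw [postEquiv_apply]; rfl

theorem GoodAt.of_shift {X : DerivedCategory A} {n p : ℤ} (hp : n + q = p)
    (e : Ψ.obj (X⟦n⟧) ≅ (Ψ.obj X)⟦n⟧) (he : η.app (X⟦n⟧) ≫ e.hom = (η.app X)⟦n⟧')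
    (h : GoodAt R I U η p X) : GoodAt R I U η q (X⟦n⟧) := by
  let a := (shiftFunctorAdd' (DerivedCategory A) n q p hp).app X
  let b := (shiftFunctorAdd' (DerivedCategory A) n q p hp).app (Ψ.obj X)
  refine good_of_equiv (postEquiv U a) (postEquiv U (b ≪≫ (shiftFunctor (DerivedCategory A) q).mapIso e.symm)) (fun x => ?_) h
  rw [postEquiv_apply, postEquiv_apply]
  show (x ≫ a.hom) ≫ (η.app (X⟦n⟧))⟦q⟧' = (x ≫ (η.app X)⟦p⟧') ≫ b.hom ≫ e.inv⟦q⟧'
  rw [Category.assoc, Category.assoc]
  refine congrArg (x ≫ ·) ?_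
  have hn := (shiftFunctorAdd' (DerivedCategory A) n q p hp).hom.naturality (η.app X)
  show a.hom ≫ (η.app (X⟦n⟧))⟦q⟧' = (η.app X)⟦p⟧' ≫ b.hom ≫ e.inv⟦q⟧'
  rw [show (η.app (X⟦n⟧)) = (η.app X)⟦n⟧' ≫ e.inv from by rw [← he, Category.assoc, e.hom_inv_id, Category.comp_id],
    Functor.map_comp, ← Category.assoc, ← Category.assoc]
  exact congrArg (· ≫ e.inv⟦q⟧') hn.symm

variable {P : ObjectProperty (DerivedCategory A)} [P.IsTriangulated] [P.IsClosedUnderIsomorphisms]
  {c : DerivedCategory A ⥤ P.FullSubcategory} (adj : c ⊣ P.ι)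

include adj in
/-- The unit commutes with shifts. -/
theorem exists_refl_shift (X : DerivedCategory A) (n : ℤ) :
    ∃ e : (c.obj (X⟦n⟧)).obj ≅ (c.obj X).obj⟦n⟧, adj.unit.app (X⟦n⟧) ≫ e.hom = (adj.unit.app X)⟦n⟧' := by
  letI := adj.leftAdjointCommShift ℤ
  haveI := adj.commShift_of_rightAdjoint ℤ
  refine ⟨((c ⋙ P.ι).commShiftIso n).app X, ?_⟩
  have h := NatTrans.shift_app_comm adj.unit n X
  rw [Functor.commShiftIso_id_hom_app] at h
  exact h.symm.trans (Category.id_comp _)

/-- A triangle with vanishing outer Hom groups gives a bijection. -/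
theorem bijective_pm₁ {T : Triangle (DerivedCategory A)} (hT : T ∈ distTriang (DerivedCategory A))
    (h : Subsingleton (U ⟶ T.obj₃⟦q - 1⟧)) (h' : Subsingleton (U ⟶ T.obj₃⟦q⟧)) :
    Function.Bijective (pm R U T.mor₁ q) :=
  ⟨injective_pm₁ hT U q h, surjective_pm₁ hT U q h'⟩

/-- A triangle with vanishing outer Hom groups gives a bijection. -/
theorem bijective_pm₂ {T : Triangle (DerivedCategory A)} (hT : T ∈ distTriang (DerivedCategory A))
    (h : Subsingleton (U ⟶ T.obj₁⟦q⟧)) (h' : Subsingleton (U ⟶ T.obj₁⟦q + 1⟧)) :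
    Function.Bijective (pm R U T.mor₂ q) :=
  bijective_pm₁ (T := T.rotate) (rot_of_distTriang _ hT)
    (DerCompLib.Null.subsingleton_shift_congr (show 1 + (q - 1) = q by omega) h)
    (DerCompLib.Null.subsingleton_shift_congr (add_comm 1 q) h')

end Groth.Agent.H16Derived.DerCohAdic
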